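import Mathlib
import Cfsg.Agent.Lang.Jordan
import Cfsg.Agent.Chev.EvalP

/-! Enumeration of the Weyl group; existence of elements of given order. -/

set_option autoImplicit false
set_option linter.unusedSectionVars false

namespace Cfsg.Agent.Lang

open Cfsg.Lie Cfsg.Agent.Chev
open Matrix hiding zpow_add zpow_mul zpow_sub one_zpow

/-- Evaluate an integer before passing it on. -/
noncomputable def frc (a : ℤ) (k : ℤ → Bool) : Bool :=
  Int.rec (fun n => Nat.rec (k 0) (fun m _ => k (Int.ofNat (m + 1))) n)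
    (fun n => Nat.rec (k (-1)) (fun m _ => k (Int.negSucc (m + 1))) n) a

theorem frc_eq (a : ℤ) (k : ℤ → Bool) : frc a k = k a := by
  rcases a with (_ | _) | (_ | _) <;> rfl

/-- Evaluate a vector before passing it on. -/
noncomputable def frcV (n : ℕ) (v : ℕ → ℤ) (k : (ℕ → ℤ) → Bool) : Bool :=
  Nat.rec (motive := fun _ => List ℤ → Bool) (fun L => k (nthL L 0))
    (fun i ih L => frc (v i) fun a => ih (a :: L)) n []

theorem frcV_eq (n : ℕ) (v : ℕ → ℤ) (k : (ℕ → ℤ) → Bool) :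
    frcV n v k = k fun i => if i < n then v i else 0 := by
  have : ∀ L, Nat.rec (motive := fun _ => List ℤ → Bool) (fun L => k (nthL L 0))
      (fun i ih L => frc (v i) fun a => ih (a :: L)) n L = k (nthL ((List.range n).map v ++ L) 0) := by
    induction n with
    | zero => simp
    | succ n ih => intro L; exact (frc_eq _ _).trans ((ih _).trans (by simp [List.range_succ]))
  rw [frcV, this]
  congr 1
  funext i
  by_cases h : i < n <;> simp [nthL_eq, h]

/-- Search through the images of the fundamental roots. -/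
def srchE (E : Enc) (leaf : (ℕ → ℕ) → Bool) (m : ℕ) : List (ℕ × ℕ) → Bool :=
  Nat.rec (fun acc => leaf fun i => (nthL acc (0, 0) i).2) (fun i ih acc => allN E.n fun r =>
    !(allL acc fun p => isZ (E.pair r p.2 - E.car i (E.sim p.1)) &&
      isZ (E.pair p.2 r - E.car p.1 (E.sim i))) || ih ((i, r) :: acc)) m

variable {D : ChevalleyDatum} (T : RootTable D)

theorem srchE_sound {E : Enc} (hE : E.agree D = true) {leaf : (ℕ → ℕ) → Bool}
    (h : srchE E leaf E.l [] = true) (w : T.W) :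
    ∃ f, leaf f = true ∧ ∀ i : Fin D.rank, f i = T.act w (D.simple i) := by
  obtain ⟨-, h2, h3, -, -, h6, -⟩ := E.agree_spec D hE
  have key : ∀ m d, m + d = D.rank → srchE E leaf m
      ((List.range' m d).map fun j => (j, T.act w (D.simple j))) = true →
      ∃ f, leaf f = true ∧ ∀ i : Fin D.rank, f i = T.act w (D.simple i) := fun m => by
    induction m with
    | zero => exact fun d e h => ⟨_, h, fun i => by simp [nthL_eq, show i < d by omega]⟩
    | succ m ih =>
      intro d e h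
      have h1 := (allN_iff _ _).1 h _ (n_eq T hE ▸ T.act_lt w (T.simple_lt ⟨m, by omega⟩))
      refine ih (d + 1) (by omega) ?_
      rw [List.range'_succ, List.map_cons]
      refine (Bool.or_eq_true_iff.1 h1).resolve_left ?_
      rw [Bool.not_eq_true', Bool.not_eq_false, allL_iff, List.forall_mem_map, pair_eq hE, ← h6, ← h3]
      intro j hj
      have a := T.simple_lt ⟨m, by omega⟩
      have b := T.simple_lt ⟨j, by have := List.mem_range'_1.1 hj; omega⟩
      rw [T.pairing_act w a b, T.pairing_act w b a, T.pairing_simple, T.pairing_simple]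
      simp [isZ_iff]
  exact key _ 0 (by simpa using h2.symm) h

section Tw

variable {ι M : Type*} [Fintype ι] [DecidableEq ι] [CommGroup M]

/-- The value of `c` on a weight. -/
def evc (c : ι → M) (μ : ι → ℤ) : M := ∏ i, c i ^ μ i

theorem evc_add (c : ι → M) (μ ν : ι → ℤ) : evc c (μ + ν) = evc c μ * evc c ν := by
  simp [evc, zpow_add, Finset.prod_mul_distrib]

theorem evc_smul (c : ι → M) (a : ℤ) (μ : ι → ℤ) : evc c (a • μ) = evc c μ ^ a := by
  simp [evc, ← Finset.prod_zpow, ← zpow_mul, mul_comm]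

theorem evc_single (c : ι → M) (i : ι) : evc c (Pi.single i 1) = c i := by
  simp [evc, Pi.single_apply]

theorem evc_mulVec (c : ι → M) (A : Matrix ι ι ℤ) (μ : ι → ℤ) :
    evc c (A *ᵥ μ) = evc (pw c A) μ :=
  (congrFun (pw_pw c A fun j (_ : Unit) => μ j) ()).symm

/-- The pairs `(B, m)` such that `B` acts as the `m`-th power. -/
def twS (c : ι → M) : Subring (Matrix ι ι ℤ × ℤ) where
  carrier := {B | ∀ μ, evc c (B.1 *ᵥ μ) = evc c μ ^ B.2}
  one_mem' := by simp
  zero_mem' := by simp [evc]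
  mul_mem' {a b} ha hb μ := by
    rw [Prod.fst_mul, ← mulVec_mulVec, ha, hb, ← zpow_mul, mul_comm]; rfl
  add_mem' {a b} ha hb μ := by rw [Prod.fst_add, add_mulVec, evc_add, ha, hb, ← zpow_add]; rfl
  neg_mem' {a} ha μ := by
    rw [Prod.fst_neg, neg_mulVec, ← neg_one_smul ℤ, evc_smul, ha, ← zpow_mul]; simp

theorem mem_twS {c : ι → M} {A : Matrix ι ι ℤ} {q : ℕ} (h : c ^ q = pw c A) :
    (A, (q : ℤ)) ∈ twS c := fun μ => by
  rw [evc_mulVec, ← h]
  simp only [evc, ← Finset.prod_zpow, Pi.pow_apply, ← zpow_natCast, ← zpow_mul, mul_comm]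

theorem zpow_eq_one_of_twS {c : ι → M} {B : Matrix ι ι ℤ × ℤ} (h : B ∈ twS c)
    (h1 : ∀ j, evc c (B.1 *ᵥ Pi.single j 1) = 1) : c ^ B.2 = 1 :=
  funext fun j => by rw [Pi.pow_apply, ← evc_single c j, ← h, h1]; rfl

theorem zpow_det_eq_one {c : ι → M} {R : Matrix ι ι ℤ} (h : ∀ j, evc c (fun i => R i j) = 1) :
    c ^ R.det = 1 := funext fun j => by
  have := evc_mulVec c R (R.adjugate *ᵥ Pi.single j 1)
  rw [mulVec_mulVec, mul_adjugate, smul_mulVec, one_mulVec, evc_smul, evc_single,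
    show pw c R = 1 from funext h] at this
  simpa [evc] using this

end Tw

variable (D) in
/-- The functional given by a vector of the coroot lattice. -/
def fY (y : ℕ → ℤ) : (Fin D.rank → ℤ) →+ ℤ :=
  (∑ i : Fin D.rank, y i • scoroot (cm D) i).toAddMonoidHom

theorem fY_vec (y : ℕ → ℤ) {r : ℕ} (hr : r < 2 * T.N) : fY D y (T.vec r) = evY D y r := by
  simp [fY, evY, LinearMap.sum_apply, T.cartan_eq _ r hr]

theorem pow_eq_one_of_evY {F G : Type*} [Field F] [Group G] {x : ℕ → F → G} (h0 : IsSt0 D x)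
    (p : ℕ) [Fact p.Prime] [CharP F p] {A : Set ℕ} (hA : T.Nil A) (y : ℕ → ℤ) (k : ℕ)
    (hk : ∀ r ∈ A, 0 < evY D y r ∧ evY D y r < p ^ k) {u : G} (hu : u ∈ XS x A) : u ^ p ^ k = 1 :=
  pow_eq_one_of_lt h0 p hA (f := fY D y) (fun r hr => fY_vec T y (hA.lt r hr) ▸ (hk r hr).1)
    (fun r hr => fY_vec T y (hA.lt r hr) ▸ (hk r hr).2) hu

theorem nil_pos_torChar {F : Type*} [Field F] (c : Fin D.rank → Fˣ) :
    T.Nil {r | (T.N ≤ r ∧ r < 2 * T.N) ∧ torChar D c r = 1} :=
  T.nil_pos'.mono (fun _ h => h.1) fun r hr s hs k hk i j hi hj e =>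
    ⟨T.nil_pos'.closed r hr.1 s hs.1 k hk i j hi hj e, (closed_of_torChar (T := T) (c := c)
      (fun _ => Iff.rfl) r ⟨hr.1.2, hr.2⟩ s ⟨hs.1.2, hs.2⟩ k hk i j hi hj e).2⟩

variable [Good D] (hD : D ∈ [chevG2, chevF4, chevE8]) {F : Type*} [Field F] [Fintype F]
  (p : ℕ) [hp : Fact p.Prime] [CharP F p]
include hD

include hp in
/-- The Jordan decomposition in the simply connected case. -/
theorem exists_jordan_sc {E : Enc} (hE : E.agree D = true) {leaf : (ℕ → ℕ) → Bool}
    (h : srchE E leaf E.l [] = true) {n : ℕ} (hn : D.rank = n) (u : D.group F) :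
    ∃ (c : Fin n → (AlgebraicClosure F)ˣ) (f : ℕ → ℕ) (v : D.group (AlgebraicClosure F)),
      (∀ m, c ^ m = 1 → v ^ m = 1 → orderOf u ∣ m) ∧ (∀ m, u ^ m = 1 → m.Coprime p → v = 1) ∧
      (∀ m, u ^ m = 1 → c ^ m = 1) ∧ leaf f = true ∧
      (Matrix.of fun i j : Fin n => E.co (f i) j, (Fintype.card F : ℤ)) ∈ twS c ∧
      v ∈ XS (xC D _) {r | (E.n / 2 ≤ r ∧ r < E.n) ∧ evc c (fun i => E.car i r) = 1} ∧
      ∀ y k, (∀ r < E.n, E.n / 2 ≤ r → evc c (fun i => E.car i r) = 1 →
        0 < evE E y r ∧ evE E y r < p ^ k) → v ^ p ^ k = 1 := by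
  subst hn
  obtain ⟨T⟩ := exists_rootTable (D := D) (by simp at hD ⊢; tauto)
  obtain ⟨-, -, -, -, e1, e2, -⟩ := E.agree_spec D hE
  rw [n_eq T hE, ← e1, ← e2, Nat.mul_div_cancel_left _ two_pos]
  obtain ⟨c, w, v, h1, h2, h3, h4⟩ := exists_jordan (k := AlgebraicClosure F) T p u
  have h5 : ∀ n, u ^ n = 1 ↔ torC D T _ (c ^ n) * v ^ n = 1 := fun n => by
    have := h1.pow n
    rw [← map_pow, h2.mul_pow, ← map_pow] at this
    rw [← map_eq_one_iff _ (fieldHom_injective (algebraMap F (AlgebraicClosure F)))]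
    exact ⟨fun h => isConj_one_right.1 (h ▸ this), fun h => isConj_one_left.1 (h ▸ this)⟩
  have h6 : ∀ n, u ^ n = 1 → v ^ n = 1 := fun n h => (isND_xC T).eq_one_of_mem_U_H
    (pow_mem (T.Us_eq (x := xC D (AlgebraicClosure F)) ▸ XS_mono (fun _ h => h.1) h3) n)
    (eq_inv_of_mul_eq_one_right ((h5 n).1 h) ▸ inv_mem (torY_mem_Hs _ _ T _))
  obtain ⟨f, h7, h8⟩ := srchE_sound T hE h w⁻¹
  refine ⟨c, f, v, fun n a b => orderOf_dvd_of_pow_eq_one ((h5 n).2 (by simp [a, b])),
    fun n h hn => ?_, fun n h => torC_injective T hD _ (by simpa [h6 n h] using (h5 n).1 h), h7,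
    mem_twS (torC_injective T hD _ ?_), h3, fun y k hk => pow_eq_one_of_evY T isSt_xC.toIsSt0 p
      (nil_pos_torChar T c) y k (fun r hr => evE_eq hE ▸ hk r hr.1.2 hr.1.1 hr.2) h3⟩
  · obtain ⟨e, he⟩ := isPGroup_XS_of_nil isSt_xC.toIsSt0 p (nil_pos_torChar T c) ⟨v, h3⟩
    exact orderOf_eq_one_iff.1 (Nat.eq_one_of_dvd_coprimes (hn.pow_right e)
      (orderOf_dvd_of_pow_eq_one (h6 n h)) (orderOf_dvd_of_pow_eq_one (congrArg Subtype.val he)))
  · rw [← mul_inv_eq_one, ← map_inv, ← map_mul, ← pow_one (torC _ _ _ _), torC_pow_eq_one]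
    intro i
    have := torChar_pw_wmat isSt_xC isR3_xC T (isND_xC T) w⁻¹ c (T.act_lt w (T.simple_lt i))
    rw [T.act_inv_act, h4 _ (T.simple_lt i), ← torChar_pow] at this
    rw [pow_one, ← mul_inv_cancel (torChar D (c ^ _) _)]
    nth_rewrite 2 [← this]
    rw [show (of fun i j : Fin D.rank => co D (f i) j) = wmat T w⁻¹ from
      funext₂ fun i j => congrArg (co D · j) (h8 i)]
    simp [torChar, mul_zpow, Finset.prod_mul_distrib]

omit [CharP F p] in
theorem exists_orderOf_of_twist {k : Type*} [Field k] [IsAlgClosed k] (ι : F →+* k) [CharP k p]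
    {e : ℕ} (he : p ^ e = Fintype.card F) {n a : D.group k}
    (h : fieldHom D (iterateFrobenius k p e) a = n * a * n⁻¹) :
    ∃ b : D.group F, orderOf b = orderOf a := by
  obtain ⟨T⟩ := exists_rootTable (D := D) (by simp at hD ⊢; tauto)
  obtain ⟨g, hg⟩ := lang_group p (he ▸ Fintype.one_lt_card : 1 < p ^ e) n⁻¹
  obtain ⟨b, hb⟩ : g * a * g⁻¹ ∈ (fieldHom D ι).range := by
    rw [range_fieldHom_frob ι he]
    refine mem_fixL_of_fix isSt_xC isR3_xC T (fun r _ t => fieldHom_xC _ r t) (isND_xC T)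
      (torC_injective T hD k) (Gs_xC.ge trivial) ?_
    rw [map_mul, map_mul, map_inv, h, eq_mul_of_inv_mul_eq hg.symm]
    group
  exact ⟨b, by rw [← orderOf_injective _ (fieldHom_injective ι), hb]; exact (MulAut.conj g).orderOf_eq a⟩

/-- Elements of given order from twisted tori. -/
theorem exists_orderOf_tor (l : List (Fin D.rank)) {n : ℕ} (hn : D.rank = n) (A : List (List ℤ))
    (hA : ∀ i < n, ∀ j < n, co D (actL D l (D.simple i)) j = aget A i j) (y : ℕ → ℤ) {N : ℕ}
    (hN : N.Coprime p)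
    (hy : ∀ j : Fin n, (N : ℤ) ∣ Fintype.card F * y j - ∑ i : Fin n, y i * aget A i j) (μ : ℕ → ℤ)
    (hc : IsCoprime (∑ i : Fin n, y i * μ i) N) :
    (∃ a : D.group F, orderOf a = N) ∧ ∀ r < D.nroots, actL D l r = r →
      (N : ℤ) ∣ ∑ i : Fin n, y i * D.cartan i r → ∃ a : D.group F, orderOf a = p * N := by
  subst hn
  obtain ⟨T⟩ := exists_rootTable (D := D) (by simp at hD ⊢; tauto)
  let k := AlgebraicClosure F
  obtain ⟨e, -, he⟩ := FiniteField.card F p
  have hN0 : N ≠ 0 := by rintro rfl; simp [hp.out.ne_one] at hN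
  have : NeZero (N : k) := ⟨fun h => hp.out.coprime_iff_not_dvd.1 hN.symm
    ((CharP.cast_eq_zero_iff k p N).1 h)⟩
  obtain ⟨z, hz⟩ := HasEnoughRootsOfUnity.exists_primitiveRoot k N
  obtain ⟨z, rfl⟩ := hz.isUnit hN0
  rw [IsPrimitiveRoot.coe_units_iff] at hz
  obtain ⟨n, -, hw⟩ := (isSt_xC (F := k)).exists_mem_Ns_acts T (T.cs.wordProd l)
  let c : Fin D.rank → kˣ := fun i => z ^ y i
  have h1 : fieldHom D (iterateFrobenius k p e) (torC D T k c) = n * torC D T k c * n⁻¹ := by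
    rw [fieldHom_torC, torC, conj_torY _ _ T hw]
    congr 1
    funext j
    refine Eq.trans (b := c j ^ Fintype.card F) (by rw [he]; rfl) ?_
    simp only [pw, c, ← zpow_natCast, ← zpow_mul, ← zpow_sum_eq, wmat,
      act_wordProd T l (T.simple_lt _)]
    rw [← mul_inv_eq_one, ← zpow_sub, hz.zpow_eq_one_iff_dvd, mul_comm]
    have := hy j
    simp only [← hA _ (Fin.is_lt _) _ j.2] at this
    exact this
  have h2 : orderOf (torC D T k c) = N := by
    rw [orderOf_injective _ (torC_injective T hD k)]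
    refine Nat.dvd_antisymm (orderOf_dvd_of_pow_eq_one (funext fun i => ?_)) ?_
    · rw [Pi.pow_apply, ← zpow_natCast, ← zpow_mul, mul_comm, zpow_mul, zpow_natCast, hz.pow_eq_one,
        one_zpow]; rfl
    · refine Int.natCast_dvd_natCast.1 (hc.symm.dvd_of_dvd_mul_left ?_)
      rw [← hz.zpow_eq_one_iff_dvd, zpow_mul, zpow_sum_eq, ← Finset.prod_zpow]
      refine Finset.prod_eq_one fun i _ => ?_
      rw [zpow_mul, zpow_comm, zpow_natCast,
        show (z ^ y i) ^ orderOf c = 1 from congrFun (pow_orderOf_eq_one c) i, one_zpow]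
  refine ⟨h2 ▸ exists_orderOf_of_twist hD p (algebraMap F k) he.symm h1, fun r hr h3 h4 => ?_⟩
  have hr' := T.lt_iff.1 hr
  obtain ⟨d, hd, h5⟩ := hw.conj hr'
  obtain ⟨a, ha⟩ := IsAlgClosed.exists_pow_nat_eq d (n := Fintype.card F - 1)
    (Nat.sub_pos_of_lt Fintype.one_lt_card)
  have h6 : Commute (torC D T k c) (xC D k r a) := mul_inv_eq_iff_eq_mul.1 (by
    rw [torC, torY_conj _ _ T c hr, torChar_zpow, evY, (hz.zpow_eq_one_iff_dvd _).2 h4]; simp)
  have h7 : orderOf (xC D k r a) = p := by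
    refine orderOf_eq_prime (x_pow_char isSt_xC.toIsSt0 p hr a) fun h => hd ?_
    rw [← ha, (isND_xC T).x_inj isSt_xC.toIsSt0 hr' (h.trans (isSt_xC.toIsSt0.x_zero hr).symm),
      zero_pow (Nat.sub_pos_of_lt Fintype.one_lt_card).ne']
  rw [mul_comm, ← h2, ← h7, ← h6.orderOf_mul_eq_mul_orderOf_of_coprime (by rwa [h2, h7])]
  refine exists_orderOf_of_twist hD p (algebraMap F k) he.symm (n := n) ?_
  rw [map_mul, h1, fieldHom_xC, iterateFrobenius_def, ← he, ← Nat.sub_add_cancel Fintype.card_pos,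
    pow_succ, ha, ← h3, ← act_wordProd T l hr', ← h5, act_wordProd T l hr', h3]
  group

omit hD [Fintype F] hp

/-- The `n`-th power of a word. -/
def powW (w : List (ℕ × ℤ)) (n : ℕ) : List (ℕ × ℤ) := Nat.rec [] (fun _ ih => w ++ ih) n

theorem word_powW (w : List (ℕ × ℤ)) (n : ℕ) :
    word (xC D F) (castW F (powW w n)) = word (xC D F) (castW F w) ^ n := by
  induction n with
  | zero => rfl
  | succ n ih => rw [pow_succ', ← ih, ← word_append, castW, castW, castW, ← List.map_append]; rfl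

variable (D) in
/-- The word moves the basis vector `b` in the direction `a`. -/
def neChk (w : List (ℕ × ℤ)) (a b : ℕ) : Bool :=
  allL w (fun x => Nat.blt x.1 D.nroots) && Nat.blt a D.nroots && Nat.blt b D.nroots && a != b &&
    ((((tab D).actW (constW w) [(b, 1, 0, 0)]).filter (·.1 == a)).map (·.2.1)).sum % p != 0

theorem word_ne_one {w : List (ℕ × ℤ)} {a b : ℕ} (h : neChk D p w a b = true) :
    word (xC D F) (castW F w) ≠ 1 := fun e => by
  simp only [neChk, Bool.and_eq_true, allL_iff, Nat.blt_eq, bne_iff_ne] at h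
  obtain ⟨⟨⟨⟨h1, h2⟩, h3⟩, h4⟩, h5⟩ := h
  obtain ⟨a, rfl⟩ := exists_code D (h2.trans_le (Nat.le_add_right _ _))
  obtain ⟨b, rfl⟩ := exists_code D (h3.trans_le (Nat.le_add_right _ _))
  have h6 := congrFun (actW_sound (1 : F) 1 (constW w) (List.forall_mem_map.2 h1)
    [(code D b, 1, 0, 0)] (by simpa using code_lt D b)).1 a
  rw [evW_constW, ← coe_word, ← coe_word_xC, e, evV_basis] at h6
  have h7 : ∀ v : List Tm, evV D (1 : F) 1 v a =
      (((v.filter (·.1 == code D a)).map (·.2.1)).sum : ℤ) := fun v => by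
    induction v with
    | nil => simp
    | cons τ v ih =>
      by_cases h : τ.1 = code D a <;> simp [evV_cons, ih, bv, h, Ne.symm]
  refine h5 (Int.emod_eq_zero_of_dvd ((CharP.intCast_eq_zero_iff F p _).1 ?_))
  rw [← h7, h6]
  simp [show a ≠ b from fun e => h4 (e ▸ rfl)]

theorem orderOf_word {w : List (ℕ × ℤ)} {n : ℕ} (hn : 0 < n)
    (h1 : (tab D).wordEqP p (powW w n) [] = true) (L : List (ℕ × ℕ × ℕ))
    (h2 : ∀ l ∈ n.primeFactorsList, l ∈ L.map Prod.fst)
    (h3 : allL L (fun t => neChk D p (powW w (n / t.1)) t.2.1 t.2.2) = true) :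
    ∃ a : D.group F, orderOf a = n := by
  refine ⟨word (xC D F) (castW F w), orderOf_eq_of_pow_and_pow_div_prime hn ?_ fun l hl hd => ?_⟩
  · rw [← word_powW]
    exact word_xC_eq_of_check (by simp) h1
  · obtain ⟨t, ht, rfl⟩ := List.mem_map.1 (h2 l ((Nat.mem_primeFactorsList hn.ne').2 ⟨hl, hd⟩))
    rw [← word_powW]
    exact word_ne_one p ((allL_iff _ _).1 h3 t ht)

end Cfsg.Agent.Lang
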