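import Mathlib
import Cfsg.Agent.Lang.WEnum

/-! Element orders of `G₂(q)`. -/

set_option autoImplicit false
set_option linter.unusedSectionVars false

namespace Cfsg.Agent.Lang

open Cfsg.Lie Cfsg.Agent.Chev
open Matrix hiding zpow_add zpow_mul zpow_sub one_zpow

theorem zpow_det_two {M : Type*} [CommGroup M] {c : Fin 2 → M} {μ ν : Fin 2 → ℤ}
    (h1 : evc c μ = 1) (h2 : evc c ν = 1) : c ^ (μ 0 * ν 1 - ν 0 * μ 1) = 1 := by
  have := zpow_det_eq_one (c := c) (R := Matrix.of fun i j => ![μ, ν] j i)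
    (Fin.forall_fin_two.2 ⟨h1, h2⟩)
  rwa [det_fin_two] at this

theorem eq_one_of_pow_char {k ι : Type*} [Field k] (p : ℕ) [Fact p.Prime] [CharP k p] {c : ι → kˣ}
    {n : ℕ} (h : c ^ p ^ n = 1) : c = 1 := funext fun i => Units.ext (by
  have := congrArg Units.val (congrFun h i)
  rwa [Pi.pow_apply, Units.val_pow_eq_pow_val, Pi.one_apply, Units.val_one, ← sub_eq_zero,
    ← one_pow (p ^ n), ← sub_pow_char_pow, pow_eq_zero_iff (pow_pos (Fact.out : p.Prime).pos n).ne',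
    sub_eq_zero] at this)

theorem coprime_of_eq {F : Type*} [Field F] [Fintype F] (p : ℕ) [CharP F p] {N : ℕ} (t : ℤ)
    (h : (N : ℤ) = Fintype.card F * t + 1 ∨ (N : ℤ) = Fintype.card F * t - 1) : N.Coprime p := by
  obtain ⟨s, hs⟩ := (CharP.cast_eq_zero_iff F p _).1 (FiniteField.cast_card_eq_zero F)
  rw [hs] at h
  rcases h with h | h
  · exact Nat.isCoprime_iff_coprime.1 ⟨1, -(s * t), by rw [h]; push_cast; ring⟩
  · exact Nat.isCoprime_iff_coprime.1 ⟨-1, s * t, by rw [h]; push_cast; ring⟩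

/-- A root of `G₂` as a weight. -/
def muG (r : ℕ) : Fin 2 → ℤ := fun i => encG2.car i r

/-- The properties of the elements of the Weyl group of type `G₂`. -/
def PG2 (A : Matrix (Fin 2) (Fin 2) ℤ) : Prop :=
  (A * A - 1 = 0 ∨ A * A + A + 1 = 0 ∨ A * A - A + 1 = 0) ∧ ∀ r < 12,
    (muG r 0 * (A *ᵥ muG r) 1 - (A *ᵥ muG r) 0 * muG r 1).natAbs ∈ [1, 2, 3] ∨
    ∃ e ∈ [(1 : ℤ), -1], ∀ j, ∃ k ∈ [(-3 : ℤ), -2, -1, 0, 1, 2, 3],
      (A + (e : Matrix (Fin 2) (Fin 2) ℤ)) *ᵥ Pi.single j 1 = k • muG r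

instance (A : Matrix (Fin 2) (Fin 2) ℤ) : Decidable (PG2 A) := inferInstanceAs (Decidable (_ ∧ _))

variable {F : Type*} [Field F] [Fintype F] (p : ℕ) [hp : Fact p.Prime] [CharP F p]

theorem orderOf_G2 (u : chevG2.group F) {q : ℤ} (hq : (Fintype.card F : ℤ) = q) :
    (orderOf u : ℤ) ∣ q ^ 2 - 1 ∨ (orderOf u : ℤ) ∣ q ^ 2 + q + 1 ∨ (orderOf u : ℤ) ∣ q ^ 2 - q + 1 ∨
      (orderOf u : ℤ) ∣ p * (q + 1) ∨ (orderOf u : ℤ) ∣ p * (q - 1) ∨
      (∀ k, 5 < p ^ k → orderOf u ∣ p ^ k) ∨ (p = 2 ∧ orderOf u ∣ 12) := by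
  have := goodG2
  obtain ⟨c, f, v, h1, -, -, h2, h4, h3, hv⟩ := exists_jordan_sc (D := chevG2) (by simp) p encG2_agree
    (leaf := fun f => decide (PG2 (Matrix.of fun i j => encG2.co (f i) j))) (by decide +kernel)
    (n := 2) rfl u
  have h1' : ∀ m : ℤ, c ^ m = 1 → v ^ m = 1 → (orderOf u : ℤ) ∣ m := fun m a b =>
    Int.natCast_dvd.2 (h1 _ (pow_natAbs_eq_one.2 a) (pow_natAbs_eq_one.2 b))
  obtain ⟨h5, h6⟩ := of_decide_eq_true h2
  rw [hq] at h4
  generalize Matrix.of _ = A at h4 h5 h6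
  change _ ∈ XS _ {r | (6 ≤ r ∧ r < 12) ∧ evc c (muG r) = 1} at h3
  by_cases hc : c = 1
  · refine .inr (.inr (.inr (.inr (.inr (.inl fun k hk => h1 _ (by simp [hc]) ?_)))))
    refine hv (nthL [3, 5] 0) k fun r a b _ => ?_
    have := (by decide +kernel : ∀ r < 12, 6 ≤ r → 0 < evE encG2 (nthL [3, 5] 0) r ∧
      evE encG2 (nthL [3, 5] 0) r ≤ 5) r a b
    exact ⟨this.1, this.2.trans_lt (by exact_mod_cast hk)⟩
  by_cases hA : ∃ r, (6 ≤ r ∧ r < 12) ∧ evc c (muG r) = 1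
  swap
  · rw [Set.eq_empty_of_forall_notMem (s := {r | _}) (not_exists.1 hA), XS_empty,
      Subgroup.mem_bot] at h3
    have h7 : ∀ B ∈ twS c, B.1 = 0 → (orderOf u : ℤ) ∣ B.2 := fun B hB e =>
      h1' _ (zpow_eq_one_of_twS hB (by simp [e, evc])) (by simp [h3])
    rcases h5 with h | h | h
    · exact .inl (sq q ▸ h7 _ (sub_mem (mul_mem h4 h4) (one_mem _)) h)
    · exact .inr (.inl (sq q ▸ h7 _ (add_mem (add_mem (mul_mem h4 h4) h4) (one_mem _)) h))
    · exact .inr (.inr (.inl (sq q ▸ h7 _ (add_mem (sub_mem (mul_mem h4 h4) h4) (one_mem _)) h)))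
  obtain ⟨r, hr⟩ := hA
  have K : ∀ d : ℤ, d.natAbs ∈ [1, 2, 3] → c ^ d = 1 → p ≠ 2 ∧ c ^ 2 = 1 ∨ p ≠ 3 ∧ c ^ 3 = 1 := by
    intro d hd e
    rw [← pow_natAbs_eq_one] at e
    simp only [List.mem_cons, List.not_mem_nil, or_false] at hd
    rcases hd with hd | hd | hd <;> rw [hd] at e
    · exact absurd (pow_one c ▸ e) hc
    · exact .inl ⟨by rintro rfl; exact hc (eq_one_of_pow_char 2 (n := 1) e), e⟩
    · exact .inr ⟨by rintro rfl; exact hc (eq_one_of_pow_char 3 (n := 1) e), e⟩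
  have h7 : c ^ (q + 1) = 1 ∨ c ^ (q - 1) = 1 := by
    obtain ⟨n, -, hn⟩ := FiniteField.card F p
    rcases h6 r hr.1.2 with h | ⟨e, he, h⟩
    · have hd : ∀ l : ℕ, l.Prime → p ≠ l → ¬ (l : ℤ) ∣ q := fun l hl h e => h
        ((Nat.prime_dvd_prime_iff_eq hl hp.out).1 (hl.dvd_of_dvd_pow
          (hn ▸ Int.natCast_dvd_natCast.1 (hq ▸ e)))).symm
      simp only [← orderOf_dvd_iff_zpow_eq_one]
      rcases K _ h (zpow_det_two hr.2 ((h4 _).trans (by rw [hr.2, one_zpow]))) with h | h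
      · have := hd 2 Nat.prime_two h.1
        exact .inl ((Int.natCast_dvd_natCast.2 (orderOf_dvd_of_pow_eq_one h.2)).trans (by omega))
      · have := hd 3 Nat.prime_three h.1
        have h8 := Int.natCast_dvd_natCast.2 (orderOf_dvd_of_pow_eq_one h.2)
        exact (show (3 : ℤ) ∣ q + 1 ∨ (3 : ℤ) ∣ q - 1 by omega).imp h8.trans h8.trans
    · have := zpow_eq_one_of_twS (add_mem h4 (intCast_mem _ e)) fun j => by
        obtain ⟨k, -, hk⟩ := h j
        exact (congrArg _ hk).trans (by rw [evc_smul, hr.2, one_zpow])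
      simp only [List.mem_cons, List.not_mem_nil, or_false] at he
      exact he.imp (by rintro rfl; exact this) (by rintro rfl; exact this)
  have h8 : ∀ k, 2 < p ^ k → v ^ p ^ k = 1 := fun k hk => by
    have hk' : (2 : ℤ) < p ^ k := by exact_mod_cast hk
    by_cases h : evc c (muG 7) = 1
    · refine hv (nthL [1, 1] 0) k fun r a b hr => ?_
      rcases (by decide +kernel : ∀ r < 12, 6 ≤ r → evE encG2 (nthL [1, 1] 0) r = 1 ∨
        muG 7 0 * muG r 1 - muG r 0 * muG 7 1 = 1) r a b with e | e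
      · omega
      · exact absurd ((zpow_one c).symm.trans (e ▸ zpow_det_two (ν := muG r) h hr)) hc
    · refine hv (nthL [1, 2] 0) k fun r a b hr => ?_
      rcases (by decide +kernel : ∀ r < 12, 6 ≤ r → r = 7 ∨ 0 < evE encG2 (nthL [1, 2] 0) r ∧
        evE encG2 (nthL [1, 2] 0) r ≤ 2) r a b with rfl | e
      · exact absurd hr h
      · omega
  have h9 : v ^ p = 1 → (orderOf u : ℤ) ∣ p * (q + 1) ∨ (orderOf u : ℤ) ∣ p * (q - 1) := fun h =>
    h7.imp (fun e => h1' _ (by rw [mul_comm, zpow_mul, e, one_zpow]) (by simp [zpow_mul, h]))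
      fun e => h1' _ (by rw [mul_comm, zpow_mul, e, one_zpow]) (by simp [zpow_mul, h])
  refine .inr (.inr (.inr ?_))
  rw [← or_assoc]
  rcases hp.out.two_le.eq_or_lt with rfl | h2
  swap
  · exact .inl (h9 (by simpa using h8 1 (by simpa)))
  by_cases hs : ∃ s, ((6 ≤ s ∧ s < 12) ∧ evc c (muG s) = 1) ∧ s ≠ r
  · obtain ⟨s, hs, hsr⟩ := hs
    have := (K _ ((by decide +kernel : ∀ r < 12, ∀ s < 12, (6 ≤ r ∧ 6 ≤ s ∧ s ≠ r) →
      (muG r 0 * muG s 1 - muG s 0 * muG r 1).natAbs ∈ [1, 2, 3]) r hr.1.2 s hs.1.2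
      ⟨hr.1.1, hs.1.1, hsr⟩)
      (zpow_det_two hr.2 hs.2)).resolve_left (by simp)
    exact .inr (.inr ⟨rfl, h1 (3 * 2 ^ 2) (by rw [pow_mul, this.2, one_pow])
      (by rw [mul_comm, pow_mul, h8 2 (by simp), one_pow])⟩)
  · obtain ⟨t, rfl⟩ := (isSt_xC.toIsSt0.mem_XS_singleton (r := r) hr.1.2).1
      (XS_mono (fun s h => not_not.1 fun e => hs ⟨s, h, e⟩) h3)
    exact .inl (h9 (x_pow_char isSt_xC.toIsSt0 2 hr.1.2 t))

theorem exists_orderOf_G2 {q : ℤ} (hq : (Fintype.card F : ℤ) = q) {N : ℕ} :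
    ((N : ℤ) = q ^ 2 - 1 ∨ (N : ℤ) = q ^ 2 + q + 1 ∨ (N : ℤ) = q ^ 2 - q + 1 →
      ∃ a : chevG2.group F, orderOf a = N) ∧
    ((N : ℤ) = q + 1 ∨ (N : ℤ) = q - 1 → ∃ a : chevG2.group F, orderOf a = p * N) := by
  have := goodG2
  subst hq
  have key := fun l A hA (y : ℕ → ℤ) h1 h2 => exists_orderOf_tor (D := chevG2) (F := F) (N := N)
    (by simp) p l (n := 2) rfl A hA y h1 h2 (nthL [1] 0)
  refine ⟨?_, ?_⟩
  · rintro (h | h | h)
    · exact (key ([0] : List (Fin 2)) [[-1, 0], [1, 1]] (by decide +kernel)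
        (nthL [1, Fintype.card F + 1] 0) (coprime_of_eq p (Fintype.card F) (.inr (by rw [h, sq]))) (Fin.forall_fin_two.2
          ⟨⟨0, by simp [aget, nthL]⟩, ⟨1, by simp [aget, nthL, h]; ring⟩⟩)
        (by simp [nthL, isCoprime_one_left])).1
    · exact (key ([0, 1, 0, 1] : List (Fin 2)) [[1, 3], [-1, -2]] (by decide +kernel)
        (nthL [1, 1 - Fintype.card F] 0)
        (coprime_of_eq p (Fintype.card F + 1) (.inl (by rw [h]; ring))) (Fin.forall_fin_two.2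
          ⟨⟨0, by simp [aget, nthL]⟩, ⟨-1, by simp [aget, nthL, h]; ring⟩⟩)
        (by simp [nthL, isCoprime_one_left])).1
    · exact (key ([1, 0] : List (Fin 2)) [[-1, -3], [1, 2]] (by decide +kernel)
        (nthL [1, Fintype.card F + 1] 0)
        (coprime_of_eq p (Fintype.card F - 1) (.inl (by rw [h]; ring))) (Fin.forall_fin_two.2
          ⟨⟨0, by simp [aget, nthL]⟩, ⟨1, by simp [aget, nthL, h]; ring⟩⟩)
        (by simp [nthL, isCoprime_one_left])).1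
  · have e : chevG2.cartan 0 11 = 0 := by decide +kernel
    rintro (h | h)
    · exact (key ([0] : List (Fin 2)) [[-1, 0], [1, 1]] (by decide +kernel) (nthL [1] 0)
        (coprime_of_eq p 1 (.inl (by rw [h, mul_one]))) (Fin.forall_fin_two.2
          ⟨⟨1, by simp [aget, nthL, h]⟩, ⟨0, by simp [aget, nthL]⟩⟩)
        (by simp [nthL, isCoprime_one_left])).2 11 (by decide) (by decide +kernel) (by simp [nthL, e])
    · exact (key [] [[1, 0], [0, 1]] (by decide +kernel) (nthL [1] 0)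
        (coprime_of_eq p 1 (.inr (by rw [h, mul_one]))) (Fin.forall_fin_two.2
          ⟨⟨1, by simp [aget, nthL, h]⟩, ⟨0, by simp [aget, nthL]⟩⟩)
        (by simp [nthL, isCoprime_one_left])).2 11 (by decide) rfl (by simp [nthL, e])

theorem exists_orderOf_G2_sq (h : p = 3 ∨ p = 5) : ∃ a : chevG2.group F, orderOf a = p ^ 2 := by
  have := goodG2
  rcases h with rfl | rfl
  · exact orderOf_word 3 (w := [(7, 1), (6, 1)]) (by simp) (by decide +kernel) [(3, 3, 0)]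
      (by decide +kernel) (by decide +kernel)
  · exact orderOf_word 5 (w := [(7, 1), (6, 1)]) (by simp) (by decide +kernel) [(5, 6, 1)]
      (by decide +kernel) (by decide +kernel)

omit hp [CharP F p] in
theorem exists_orderOf_G2_two [CharP F 2] :
    (∃ a : chevG2.group F, orderOf a = 8) ∧ ∃ a : chevG2.group F, orderOf a = 12 :=
  have := goodG2
  ⟨orderOf_word 2 (w := [(7, 1), (6, 1)]) (by simp) (by decide +kernel) [(2, 6, 1)]
    (by decide +kernel) (by decide +kernel),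
   orderOf_word 2 (w := [(0, 1), (2, 1), (9, 1)]) (by simp) (by decide +kernel)
    [(2, 0, 1), (3, 0, 1)] (by decide +kernel) (by decide +kernel)⟩

end Cfsg.Agent.Lang
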