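import Mathlib
import Cfsg.Agent.Lang.SpecG2

/-! The Weyl group of type `F₄` acting on twisted tori. -/

set_option autoImplicit false
set_option linter.unusedSectionVars false

namespace Cfsg.Agent.Lang

open Cfsg.Lie Cfsg.Agent.Chev
open Matrix hiding zpow_add zpow_mul zpow_sub one_zpow

/-- A coded matrix. -/
def toM (a : ℕ → ℤ) : Matrix (Fin 4) (Fin 4) ℤ := of fun i j => a (i * 4 + j)

/-- The product of coded matrices. -/
def mulF (a b : ℕ → ℤ) (t : ℕ) : ℤ := sumN 4 fun k => a (t / 4 * 4 + k) * b (k * 4 + t % 4)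

/-- A coded matrix applied to a vector. -/
def mvF (a v : ℕ → ℤ) (i : ℕ) : ℤ := sumN 4 fun k => a (i * 4 + k) * v k

/-- The coded identity matrix. -/
def idF (t : ℕ) : ℤ := Bool.rec 0 1 (Nat.beq (t % 5) 0)

/-- A determinant of size four. -/
def det4 (a b c d : ℕ → ℤ) : ℤ :=
  (a 0 * b 1 - a 1 * b 0) * (c 2 * d 3 - c 3 * d 2) - (a 0 * b 2 - a 2 * b 0) * (c 1 * d 3 - c 3 * d 1) +
  (a 0 * b 3 - a 3 * b 0) * (c 1 * d 2 - c 2 * d 1) + (a 1 * b 2 - a 2 * b 1) * (c 0 * d 3 - c 3 * d 0) -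
  (a 1 * b 3 - a 3 * b 1) * (c 0 * d 2 - c 2 * d 0) + (a 2 * b 3 - a 3 * b 2) * (c 0 * d 1 - c 1 * d 0)

theorem toM_mulF (a b : ℕ → ℤ) : toM (mulF a b) = toM a * toM b := by
  ext i j
  simp only [toM, mulF, sumN_eq, of_apply, mul_apply, Finset.sum_range,
    show ((i : ℕ) * 4 + j) / 4 = i by omega, show ((i : ℕ) * 4 + j) % 4 = j by omega]

theorem toM_eq_zero {a : ℕ → ℤ} (h : allN 16 (fun t => isZ (a t)) = true) : toM a = 0 := by
  ext i j
  exact (isZ_iff _).1 ((allN_iff _ _).1 h _ (by omega))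

theorem frcM {a : ℕ → ℤ} {k : (ℕ → ℤ) → Bool} (h : frcV 16 a k = true) :
    ∃ b, toM b = toM a ∧ k b = true :=
  ⟨_, by ext i j; exact if_pos (by omega), frcV_eq 16 a k ▸ h⟩

theorem frc4 {a : ℕ → ℤ} {k : (ℕ → ℤ) → Bool} (h : frcV 4 a k = true) :
    ∃ b : ℕ → ℤ, (fun i : Fin 4 => b i) = (fun i : Fin 4 => a i) ∧ k b = true :=
  ⟨_, funext fun i => if_pos i.2, frcV_eq 4 a k ▸ h⟩

theorem mvF_eq (a v : ℕ → ℤ) : (fun i : Fin 4 => mvF a v i) = toM a *ᵥ fun i => v i := by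
  funext i
  simp only [toM, mvF, sumN_eq, Finset.sum_range]
  rfl

theorem zpow_det4 {M : Type*} [CommGroup M] {x : Fin 4 → M} {a b c d : ℕ → ℤ}
    (h1 : evc x (fun i => a i) = 1) (h2 : evc x (fun i => b i) = 1) (h3 : evc x (fun i => c i) = 1)
    (h4 : evc x (fun i => d i) = 1) : x ^ det4 a b c d = 1 := by
  convert zpow_det_eq_one (c := x) (R := of fun i j => ![a, b, c, d] j i)
    (by intro j; fin_cases j <;> assumption)
  simp [det4, det_succ_row_zero, Fin.sum_univ_succ, Fin.succAbove]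
  ring

/-- The check on the elements of the Weyl group of type `F₄`. -/
noncomputable def leafF4 (f : ℕ → ℕ) : Bool :=
  frcV 16 (fun t => encF4.co (f (t / 4)) (t % 4)) fun a => frcV 16 (mulF a a) fun b =>
  frcV 16 (mulF a b) fun c => frcV 16 (mulF a c) fun d =>
  allN 16 (fun t => isZ (d t - idF t)) || allN 16 (fun t => isZ (d t + c t - a t - idF t)) ||
  allN 16 (fun t => isZ (d t - c t + a t - idF t)) ||
  ((allN 16 (fun t => isZ (d t + idF t)) || allN 16 (fun t => isZ (d t - b t + idF t))) &&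
    allN 24 fun r => frcV 4 (fun i => encF4.car i (24 + r)) fun v => frcV 4 (mvF a v) fun v1 =>
      frcV 4 (mvF b v) fun v2 => frcV 4 (mvF c v) fun v3 => isZ (8 % det4 v v1 v2 v3))

theorem srch_F4 : srchE encF4 leafF4 encF4.l [] = true := by decide +kernel

end Cfsg.Agent.Lang
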