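import Mathlib
import Cfsg.Agent.Lang.SpecF4a

/-! Element orders of `F₄(q)`. -/

set_option autoImplicit false
set_option linter.unusedSectionVars false

namespace Cfsg.Agent.Lang

open Cfsg.Lie Cfsg.Agent.Chev
open Matrix hiding zpow_add zpow_mul zpow_sub one_zpow

theorem leafF4_spec {M : Type*} [CommGroup M] {x : Fin 4 → M} {f : ℕ → ℕ} {q : ℤ}
    (h : leafF4 f = true) (hx : (of fun i j : Fin 4 => encF4.co (f i) j, q) ∈ twS x) :
    ∃ m : ℤ, x ^ m = 1 ∧ (m ∈ [q ^ 4 - 1, (q ^ 3 - 1) * (q + 1), (q ^ 3 + 1) * (q - 1)] ∨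
      m ∈ [q ^ 4 + 1, q ^ 4 - q ^ 2 + 1] ∧ ∀ r < 48, 24 ≤ r →
        evc x (fun i => encF4.car i r) = 1 → x ^ 8 = 1) := by
  rw [leafF4] at h
  obtain ⟨a, ha, h⟩ := frcM h
  obtain ⟨b, hb, h⟩ := frcM h
  obtain ⟨c, hc, h⟩ := frcM h
  obtain ⟨d, hd, h⟩ := frcM h
  rw [toM_mulF] at hb hc hd
  have h1 : (toM a, q) ∈ twS x := by
    convert hx using 2
    rw [ha]
    ext i j
    simp only [toM, of_apply, show ((i : ℕ) * 4 + j) / 4 = i by omega,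
      show ((i : ℕ) * 4 + j) % 4 = j by omega]
  have h0 : (toM idF, (1 : ℤ)) ∈ twS x := by
    rw [(by decide +kernel : toM idF = 1)]; exact one_mem _
  have h2 : (toM b, q * q) ∈ twS x := by rw [hb, ← Prod.mk_mul_mk]; exact mul_mem h1 h1
  have h3 : (toM c, q * (q * q)) ∈ twS x := by rw [hc, ← Prod.mk_mul_mk]; exact mul_mem h1 h2
  have h4 : (toM d, q * (q * (q * q))) ∈ twS x := by rw [hd, ← Prod.mk_mul_mk]; exact mul_mem h1 h3
  have key : ∀ B ∈ twS x, B.1 = 0 → ∀ m, B.2 = m → x ^ m = 1 := fun B hB e m hm =>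
    hm ▸ zpow_eq_one_of_twS hB (by simp [e, evc])
  simp only [Bool.or_eq_true, Bool.and_eq_true] at h
  rcases h with ((h | h) | h) | ⟨h, h5⟩
  · exact ⟨_, key _ (sub_mem h4 h0) (toM_eq_zero h) (q ^ 4 - 1) (by simp; ring), by simp⟩
  · exact ⟨_, key _ (sub_mem (sub_mem (add_mem h4 h3) h1) h0) (toM_eq_zero h)
      ((q ^ 3 - 1) * (q + 1)) (by simp; ring), by simp⟩
  · exact ⟨_, key _ (sub_mem (add_mem (sub_mem h4 h3) h1) h0) (toM_eq_zero h)
      ((q ^ 3 + 1) * (q - 1)) (by simp; ring), by simp⟩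
  have h6 : ∀ r < 48, 24 ≤ r → evc x (fun i => encF4.car i r) = 1 → x ^ 8 = 1 := fun r hr hr' e => by
    obtain ⟨r, rfl⟩ := Nat.exists_eq_add_of_le hr'
    obtain ⟨v, hv, h⟩ := frc4 ((allN_iff _ _).1 h5 r (by omega))
    obtain ⟨v1, hv1, h⟩ := frc4 h
    obtain ⟨v2, hv2, h⟩ := frc4 h
    obtain ⟨v3, hv3, h⟩ := frc4 h
    rw [mvF_eq] at hv1 hv2 hv3
    rw [← hv] at e
    obtain ⟨k, hk⟩ := Int.dvd_of_emod_eq_zero ((isZ_iff _).1 h)
    rw [← zpow_natCast, show ((8 : ℕ) : ℤ) = _ from hk, zpow_mul, zpow_det4 e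
      (hv1 ▸ (h1 _).trans (by rw [e, one_zpow])) (hv2 ▸ (h2 _).trans (by rw [e, one_zpow]))
      (hv3 ▸ (h3 _).trans (by rw [e, one_zpow])), one_zpow]
  rcases h with h | h
  · exact ⟨_, key _ (add_mem h4 h0) (toM_eq_zero h) (q ^ 4 + 1) (by simp; ring), .inr ⟨by simp, h6⟩⟩
  · exact ⟨_, key _ (add_mem (sub_mem h4 h2) h0) (toM_eq_zero h) (q ^ 4 - q ^ 2 + 1)
      (by simp; ring), .inr ⟨by simp, h6⟩⟩

variable {F : Type*} [Field F] [Fintype F] (p : ℕ) [hp : Fact p.Prime] [CharP F p]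

theorem orderOf_F4 (u : chevF4.group F) {q : ℤ} (hq : (Fintype.card F : ℤ) = q) :
    ∃ m : ℤ, (orderOf u : ℤ) ∣ m * p ^ 4 ∧
      (m ∈ [q ^ 4 - 1, (q ^ 3 - 1) * (q + 1), (q ^ 3 + 1) * (q - 1)] ∨
        m ∈ [q ^ 4 + 1, q ^ 4 - q ^ 2 + 1] ∧ ((orderOf u : ℤ) ∣ m ∨ orderOf u ∣ 8 * p ^ 4)) := by
  have := goodF4
  obtain ⟨c, f, v, h1, -, -, h2, h4, h3, hv⟩ := exists_jordan_sc (D := chevF4) (by simp) p
    encF4_agree srch_F4 (n := 4) rfl u
  have h1' : ∀ m : ℤ, c ^ m = 1 → v ^ m = 1 → (orderOf u : ℤ) ∣ m := fun m a b =>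
    Int.natCast_dvd.2 (h1 _ (pow_natAbs_eq_one.2 a) (pow_natAbs_eq_one.2 b))
  obtain ⟨m, h5, h6⟩ := leafF4_spec h2 (hq ▸ h4)
  have h7 : v ^ p ^ 4 = 1 := hv (nthL [8, 15, 21, 11] 0) 4 fun r a b _ => by
    have := (by decide +kernel : ∀ r < 48, 24 ≤ r → 0 < evE encF4 (nthL [8, 15, 21, 11] 0) r ∧
      evE encF4 (nthL [8, 15, 21, 11] 0) r < 2 ^ 4) r a b
    exact ⟨this.1, this.2.trans_le (pow_le_pow_left₀ zero_le_two (by exact_mod_cast hp.out.two_le) 4)⟩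
  refine ⟨m, h1' _ (by rw [zpow_mul, h5, one_zpow])
    (by rw [mul_comm, zpow_mul, ← Nat.cast_pow, zpow_natCast, h7, one_zpow]),
    h6.imp_right fun h => ⟨h.1, ?_⟩⟩
  by_cases hA : ∃ r, (24 ≤ r ∧ r < 48) ∧ evc c (fun i => encF4.car i r) = 1
  · obtain ⟨r, hr, e⟩ := hA
    exact .inr (h1 _ (by rw [pow_mul, h.2 r hr.2 hr.1 e, one_pow])
      (by rw [mul_comm, pow_mul, h7, one_pow]))
  · change _ ∈ XS _ {r | (24 ≤ r ∧ r < 48) ∧ _} at h3
    rw [Set.eq_empty_of_forall_notMem (s := {r | _}) (not_exists.1 hA), XS_empty,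
      Subgroup.mem_bot] at h3
    exact .inl (h1' _ h5 (by simp [h3]))

omit hp [CharP F p] in
theorem exists_orderOf_F4 [CharP F 2] {q : ℤ} (hq : (Fintype.card F : ℤ) = q) {N : ℕ} :
    ((N : ℤ) ∈ [q ^ 4 - 1, (q ^ 3 - 1) * (q + 1), (q ^ 3 + 1) * (q - 1), q ^ 4 + 1,
      q ^ 4 - q ^ 2 + 1] → ∃ a : chevF4.group F, orderOf a = N) ∧
    ((N : ℤ) ∈ [q ^ 3 - 1, q ^ 3 + 1, q ^ 2 + 1] → ∃ a : chevF4.group F, orderOf a = 2 * N) := by
  have := goodF4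
  have key := fun l A hA (y : ℕ → ℤ) h1 h2 μ => exists_orderOf_tor (D := chevF4) (F := F) (N := N)
    (by simp) 2 l (n := 4) rfl A hA y h1 h2 μ
  have hc := fun t h => coprime_of_eq (F := F) 2 (N := N) t h
  rw [hq] at key hc
  simp only [List.mem_cons, List.not_mem_nil, or_false]
  have hv : ∀ (v : Fin 4 → ℤ) (g : Fin 4 → ℤ), (∀ j, g j = N * v j) → ∀ j, (N : ℤ) ∣ g j :=
    fun v g h j => ⟨_, h j⟩
  refine ⟨?_, ?_⟩
  · rintro (h | h | h | h | h)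
    · have h1 := hc (q ^ 3) (.inr (by rw [h]; ring))
      refine (key ([2, 1, 2, 1, 0] : List (Fin 4))
        [[-1, -2, -2, 0], [1, 1, 2, 0], [0, 0, -1, 0], [0, 1, 2, 1]] (by decide +kernel)
        (nthL [1 + q, 1 + 2 * q + q ^ 2, 2 + 2 * q + 2 * q ^ 2, 1 + q + q ^ 2 + q ^ 3] 0) h1
        (hv ![0, 0, 0, 1] _ fun j => ?_) (nthL [2, -2, 1] 0) ?_).1
      · fin_cases j <;> simp [Fin.sum_univ_four, aget, nthL_eq, h] <;> ring
      · convert Nat.isCoprime_iff_coprime.2 h1.symm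
        simp [Fin.sum_univ_four, nthL_eq]; ring
    · refine (key ([3, 1, 0] : List (Fin 4))
        [[-1, -1, 0, 0], [1, 0, 0, 0], [0, 1, 1, 1], [0, 0, 0, -1]] (by decide +kernel)
        (nthL [1 + q, 1 + 2 * q + q ^ 2, 1 + 2 * q + 2 * q ^ 2 + q ^ 3, 1 + q + q ^ 2] 0)
        (hc (q ^ 3 + q ^ 2 - 1) (.inr (by rw [h]; ring)))
        (hv ![0, 0, 1, 0] _ fun j => ?_) (nthL [1, -1, 0, 1] 0) ?_).1
      · fin_cases j <;> simp [Fin.sum_univ_four, aget, nthL_eq, h] <;> ring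
      · convert isCoprime_one_left
        simp [Fin.sum_univ_four, nthL_eq]; ring
    · refine (key ([2, 1, 0] : List (Fin 4))
        [[-1, -1, -2, 0], [1, 0, 0, 0], [0, 1, 1, 0], [0, 0, 1, 1]] (by decide +kernel)
        (nthL [1, 1 + q, 1 + q + q ^ 2, 1 + q ^ 3] 0)
        (hc (q ^ 3 - q ^ 2 + 1) (.inr (by rw [h]; ring)))
        (hv ![0, 0, 0, 1] _ fun j => ?_) (nthL [1] 0) ?_).1
      · fin_cases j <;> simp [Fin.sum_univ_four, aget, nthL_eq, h] <;> ring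
      · simp [Fin.sum_univ_four, nthL_eq, isCoprime_one_left]
    · refine (key ([3, 2, 1, 2, 1, 0] : List (Fin 4))
        [[-1, -2, -2, -2], [1, 1, 2, 2], [0, 0, -1, -1], [0, 1, 2, 1]] (by decide +kernel)
        (nthL [1, 1 + q, 1 + q + q ^ 2 - q ^ 3, 1 + q ^ 2] 0) (hc (q ^ 3) (.inl (by rw [h]; ring)))
        (hv ![0, 0, -1, 0] _ fun j => ?_) (nthL [1] 0) ?_).1
      · fin_cases j <;> simp [Fin.sum_univ_four, aget, nthL_eq, h] <;> ring
      · simp [Fin.sum_univ_four, nthL_eq, isCoprime_one_left]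
    · refine (key ([3, 2, 1, 0] : List (Fin 4))
        [[-1, -1, -2, -2], [1, 0, 0, 0], [0, 1, 1, 1], [0, 0, 1, 0]] (by decide +kernel)
        (nthL [1, 1 + q, 1 + q + q ^ 2, 1 + q ^ 3] 0) (hc (q ^ 3 - q) (.inl (by rw [h]; ring)))
        (hv ![0, 0, 0, 1] _ fun j => ?_) (nthL [1] 0) ?_).1
      · fin_cases j <;> simp [Fin.sum_univ_four, aget, nthL_eq, h] <;> ring
      · simp [Fin.sum_univ_four, nthL_eq, isCoprime_one_left]
  · have e : chevF4.cartan 0 47 = 0 ∧ chevF4.cartan 1 47 = 0 ∧ chevF4.cartan 2 47 = 0 := by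
      decide +kernel
    rintro (h | h | h)
    · refine (key ([1, 0] : List (Fin 4))
        [[-1, -1, 0, 0], [1, 0, 0, 0], [0, 1, 1, 0], [0, 0, 0, 1]] (by decide +kernel)
        (nthL [1, 1 + q, 1 + q + q ^ 2] 0) (hc (q ^ 2) (.inr (by rw [h]; ring)))
        (hv ![0, 0, 1, 0] _ fun j => ?_) (nthL [1] 0) ?_).2 47 (by decide) (by decide +kernel)
        (by simp [Fin.sum_univ_four, nthL_eq, e])
      · fin_cases j <;> simp [Fin.sum_univ_four, aget, nthL_eq, h] <;> ring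
      · simp [Fin.sum_univ_four, nthL_eq, isCoprime_one_left]
    · refine (key ([2, 1, 0] : List (Fin 4))
        [[-1, -1, -2, 0], [1, 0, 0, 0], [0, 1, 1, 0], [0, 0, 1, 1]] (by decide +kernel)
        (nthL [1, 1 + q, 1 + q + q ^ 2] 0) (hc (q ^ 2) (.inl (by rw [h]; ring)))
        (hv ![0, 0, 1, 0] _ fun j => ?_) (nthL [1] 0) ?_).2 47 (by decide) (by decide +kernel)
        (by simp [Fin.sum_univ_four, nthL_eq, e])
      · fin_cases j <;> simp [Fin.sum_univ_four, aget, nthL_eq, h] <;> ring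
      · simp [Fin.sum_univ_four, nthL_eq, isCoprime_one_left]
    · refine (key ([2, 1] : List (Fin 4))
        [[1, 1, 2, 0], [0, -1, -2, 0], [0, 1, 1, 0], [0, 0, 1, 1]] (by decide +kernel)
        (nthL [0, 1, 1 + q] 0) (hc q (.inl (by rw [h]; ring)))
        (hv ![0, 0, 1, 0] _ fun j => ?_) (nthL [0, 1] 0) ?_).2 47 (by decide) (by decide +kernel)
        (by simp [Fin.sum_univ_four, nthL_eq, e])
      · fin_cases j <;> simp [Fin.sum_univ_four, aget, nthL_eq, h]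
        ring
      · simp [Fin.sum_univ_four, nthL_eq, isCoprime_one_left]

end Cfsg.Agent.Lang
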