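import Mathlib
import Cfsg.Agent.Lang.RedComp
import Cfsg.Agent.Chev.TableData
import Cfsg.Agent.Chev.TwistCheck

/-!
The root subsystems of the involutions in the torus of the exceptional groups.
-/

set_option autoImplicit false

namespace Cfsg.Agent.Lang

open Cfsg.Lie Cfsg.Agent.Chev

variable {D : ChevalleyDatum} (T : RootTable D)

variable (D) in
/-- The functional with prescribed values on the simple roots. -/
def fb (m : ℕ) : (Fin D.rank → ℤ) →+ ℤ where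
  toFun v := ∑ j, v j * bitv m j
  map_zero' := by simp
  map_add' u v := by simp [add_mul, Finset.sum_add_distrib]

theorem fb_apply (m : ℕ) (v : Fin D.rank → ℤ) : fb D m v = ∑ j, v j * bitv m j := rfl

/-- The roots on which it is even. -/
def psiM (m : ℕ) : Set ℕ := {r | r < 2 * T.N ∧ 2 ∣ fb D m (T.vec r)}

/-- What the reduction needs to know about the root system. -/
def Tab (ρ : ℕ → ℕ) : Prop :=
  ∀ m < 2 ^ D.rank, m ≠ 0 → ∃ (w : T.W) (m' : ℕ) (Δ : Finset ℕ) (κ : Fin D.rank),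
    (∀ r < 2 * T.N, T.act w r ∈ psiM T m ↔ r ∈ psiM T m') ∧ SubSys T (psiM T m') Δ ∧ Nice T Δ κ ∧
    (∀ a ∈ Δ, ∀ b ∈ Δ, col D Δ 3 b = col D Δ 3 a → b = a ∨ D.pairing a b = 0) ∧
    ∀ v : T.W, Sym T (psiM T m') (T.act v ∘ ρ) → ∃ a₁, ∀ P, Cl D (T.act v ∘ ρ) Δ P →
      (∃ b ∈ P, b ≠ a₁) → ∀ b ∈ Δ, b ≠ a₁ → b ∈ P

/-- Fast walk numbers. -/
def colE (E : Enc) (L : List ℕ) : ℕ → ℕ → ℤ
  | 0, _ => 1
  | m + 1, a => (L.map fun b => E.pair a b * colE E L m b).sum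

variable (D) in
/-- The certificate for one subsystem. -/
def Cert (E : Enc) (κ : ℕ) (y : List ℤ) (d : ℤ) (L : List ℕ) (c : List ℤ) (r₀ : ℕ) : Prop :=
  (κ < E.l ∧ L.Nodup ∧ 0 < d ∧ ∀ j < E.l, evE E (y.getD · 0) (E.sim j) = d * bitv (2 ^ κ) j) ∧
  (∀ a ∈ L, a < E.n ∧ E.n / 2 ≤ a ∧ evE E (y.getD · 0) a % (d * 2) = 0 ∧
    ∀ b < E.n, E.n / 2 ≤ b → evE E (y.getD · 0) b % (d * 2) = 0 → b ≠ a →
      0 < cohtE E b - E.pair b a * cohtE E a) ∧
  (∀ r < E.n, E.n / 2 ≤ r → evE E (y.getD · 0) r % (d * 2) = 0 →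
    ∃ a ∈ L, 0 < E.pair a r ∧ 0 < E.pair r a) ∧
  (L.map (colE E L 3) = c ∧ ∀ a ∈ L.zip c, ((L.zip c).filter fun b => b.2 = a.2).length ≤ 4 ∧
    ∀ b ∈ L.zip c, b.2 = a.2 → b.1 = a.1 ∨ E.pair a.1 b.1 = 0) ∧
  (∀ i < E.l, i ≠ κ → E.sim i ∈ L) ∧
  (∀ r < E.n, (∀ a ∈ L, E.pair a r = E.pair a (E.sim κ)) → r = E.sim κ ∨ r = r₀) ∧
  ∀ a ∈ L, (∃ b ∈ L, E.pair b a % 2 = 1) ∨ (∀ b ∈ L, b ≠ a → E.pair b a = 0) ∨
    ∃ b ∈ L, E.pair a b = -1 ∧ (∀ c ∈ L, E.pair c a = E.pair b a → c = b) ∧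
      ∃ r < E.n, E.neg b ≠ r ∧ E.neg b ≠ E.neg r ∧
        (D.commTerms r (E.neg b) = [(a, 2, 1, 1)] ∨ D.commTerms r (E.neg b) = [(a, -2, 1, 1)])

set_option synthInstance.maxSize 1000 in
instance (E : Enc) (κ : ℕ) (y : List ℤ) (d : ℤ) (L : List ℕ) (c : List ℤ) (r₀ : ℕ) :
    Decidable (Cert D E κ y d L c r₀) := by unfold Cert; infer_instance

/-- Connectedness of the diagram without one node. -/
def Con (E : Enc) (L : List ℕ) (a₁ : ℕ) : Prop :=
  ∀ b ∈ L, b ≠ a₁ → ∀ c ∈ L, c ≠ a₁ →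
    c ∈ (fun S : List ℕ => L.filter fun b => S.any fun a => E.pair b a ≠ 0)^[8] [b]

instance (E : Enc) (L : List ℕ) (a₁ : ℕ) : Decidable (Con E L a₁) := by unfold Con; infer_instance

/-- Every pattern can be moved to a standard one. -/
def Mv (E : Enc) (ks : List ℕ) (par nxt dep : ℕ) : Prop :=
  ∀ m < 2 ^ E.l, m = 0 ∨ (∃ κ ∈ ks, m = 2 ^ κ) ∨ dig par 4 m < E.l ∧ dig nxt 8 m < 2 ^ E.l ∧
    dig dep 8 (dig nxt 8 m) < dig dep 8 m ∧ dig nxt 8 m ≠ 0 ∧ ∀ j < E.l,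
      2 ∣ bitv m j - E.car (dig par 4 m) (E.sim j) * bitv m (dig par 4 m) - bitv (dig nxt 8 m) j

instance (E : Enc) (ks : List ℕ) (par nxt dep : ℕ) : Decidable (Mv E ks par nxt dep) := by
  unfold Mv; infer_instance

theorem evY_eq {y : ℕ → ℤ} {d : ℤ} {m : ℕ}
    (h : ∀ j : Fin D.rank, evY D y (D.simple j) = d * bitv m j) {r : ℕ} (hr : r < 2 * T.N) :
    evY D y r = d * fb D m (T.vec r) := by
  simp only [fb_apply, Finset.mul_sum, mul_left_comm d, ← h, evY, T.cartan_eq _ r hr, scoroot_apply]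
  rw [Finset.sum_comm]
  exact Finset.sum_congr rfl fun _ _ => Finset.sum_congr rfl fun _ _ => by rw [cm]; ring

variable {E : Enc} (hE : E.agree D = true)
include hE

theorem colE_eq {L : List ℕ} (hL : L.Nodup) (m a : ℕ) : colE E L m a = col D L.toFinset m a := by
  induction m generalizing a with
  | zero => rfl
  | succ m ih => simp only [colE, col, ih, pair_eq hE, List.sum_toFinset _ hL]

theorem Mv.sound {ks : List ℕ} {par nxt dep : ℕ} (h : Mv E ks par nxt dep) {m : ℕ}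
    (hm : m < 2 ^ D.rank) (h0 : m ≠ 0) : ∃ w : T.W, ∃ κ ∈ ks,
      ∀ r < 2 * T.N, T.act w r ∈ psiM T m ↔ r ∈ psiM T (2 ^ κ) := by
  obtain ⟨-, h2, h3, -, -, h6, -⟩ := E.agree_spec D hE
  simp only [Mv, ← h2, ← h3, ← h6] at h
  induction hd : dig dep 8 m using Nat.strong_induction_on generalizing m with
  | _ d ih =>
  rcases h m hm with h1 | ⟨κ, h1, rfl⟩ | ⟨a1, a2, a3, a4, a5⟩
  · exact absurd h1 h0
  · exact ⟨1, κ, h1, fun r _ => by rw [T.act_one]⟩
  obtain ⟨w, κ, h1, h4⟩ := ih _ (hd ▸ a3) a2 a4 rfl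
  refine ⟨T.cs.simple ⟨_, a1⟩ * w, κ, h1, fun r hr => ?_⟩
  have h5 := T.act_lt w hr
  rw [← h4 r hr, T.act_mul, T.act_simple _ h5]
  refine and_congr (iff_of_true (T.refl_lt _ _ h5) h5) (Int.dvd_iff_dvd_of_dvd_sub ?_)
  rw [T.vec_refl' _ _ h5, map_sub, map_zsmul, T.cartan_eq _ _ h5, scoroot_apply, smul_eq_mul,
    show fb D m (sroot ⟨_, a1⟩) = bitv m (dig par 4 m) by simp [fb_apply, sroot, Pi.single_apply],
    fb_apply, fb_apply, Finset.sum_mul, ← Finset.sum_sub_distrib, ← Finset.sum_sub_distrib]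
  refine Finset.dvd_sum fun j _ => ?_
  convert (a5 j j.2).mul_left (T.vec (T.act w r) j) using 1
  rw [cm]; ring

theorem Cert.sound {κ : ℕ} {y : List ℤ} {d : ℤ} {L : List ℕ} {c : List ℤ} {r₀ : ℕ}
    (h : Cert D E κ y d L c r₀) : SubSys T (psiM T (2 ^ κ)) L.toFinset ∧
      (∃ κ, Nice T L.toFinset κ) ∧ ∀ a ∈ L.toFinset, ∀ b ∈ L.toFinset,
        col D L.toFinset 3 b = col D L.toFinset 3 a → b = a ∨ D.pairing a b = 0 := by
  obtain ⟨-, h2, h3, h4, -⟩ := E.agree_spec D hE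
  have hN : 2 * T.N / 2 = T.N := by omega
  simp only [Cert, pair_eq hE, evE_eq hE, cohtE_eq hE, n_eq T hE, hN, ← h2, ← h3, ← h4] at h
  obtain ⟨⟨a1, a2, a3, a4⟩, a5, a6, ⟨rfl, a7⟩, a8, a9, a10⟩ := h
  have hP : ∀ r < 2 * T.N, evY D (y.getD · 0) r % (d * 2) = 0 ↔ r ∈ psiM T (2 ^ κ) := fun r hr => by
    rw [evY_eq T (fun j => a4 j j.2) hr, ← Int.dvd_iff_emod_eq_zero, mul_dvd_mul_iff_left a3.ne']
    exact ⟨fun h => ⟨hr, h⟩, fun h => h.2⟩
  simp only [show L.zip (L.map (colE E L 3)) = L.map fun a => (a, colE E L 3 a) by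
    simpa using List.zip_map' (f := id) (g := colE E L 3) (l := L), List.forall_mem_map,
    Function.comp_def, colE_eq hE a2, List.filter_map, List.length_map] at a7
  refine ⟨⟨fun r hr => hr.1, fun r hr => ⟨T.neg_lt hr.1, ?_⟩, fun r hr s hs k hk i j _ _ e => ⟨hk, ?_⟩,
    fun a ha w hw r hr => ⟨T.act_lt w hr.1, ?_⟩, fun a ha => ?_, fun r hr hr' => ?_,
    fun a ha w hw r hr h1 h5 => pos_of_coht T (T.act_lt w hr.1) ?_⟩,
    ⟨⟨κ, a1⟩, fun a ha => ?_, fun i hi => List.mem_toFinset.2 (a8 i i.2 fun e => hi (Fin.ext e)),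
      ⟨r₀, by simpa using a9⟩, by simpa using a10⟩, by simpa using fun a ha => (a7 a ha).2⟩
  · rw [T.vec_neg r hr.1, map_neg]; exact hr.2.neg_right
  · rw [e, map_add, map_nsmul, map_nsmul, nsmul_eq_mul, nsmul_eq_mul]; exact (hr.2.mul_left _).add (hs.2.mul_left _)
  · rw [hw.vec r hr.1, map_sub, map_zsmul]; exact hr.2.sub (ha.2.mul_left _)
  · obtain ⟨b1, b2, b3, -⟩ := a5 a (List.mem_toFinset.1 ha)
    exact ⟨(hP a b1).1 b3, b2⟩
  · simpa using a6 r hr.1 hr' ((hP r hr.1).2 hr)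
  · rw [hw.cvec r hr.1]
    simpa [Finset.mul_sum] using (a5 a (List.mem_toFinset.1 ha)).2.2.2 r hr.1 h1 ((hP r hr.1).2 hr) h5
  · refine le_trans (le_of_eq ?_) ((List.toFinset_card_le _).trans (a7 a (List.mem_toFinset.1 ha)).1)
    simp [List.toFinset_filter]

theorem Con.sound {L : List ℕ} {a₁ : ℕ} (h : Con E L a₁) (τ : ℕ → ℕ) : ∃ a₁, ∀ P,
    Cl D τ L.toFinset P → (∃ b ∈ P, b ≠ a₁) → ∀ b ∈ L.toFinset, b ≠ a₁ → b ∈ P :=
  ⟨a₁, fun P hP ⟨b, hb, h1⟩ c hc h2 => by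
    have key : ∀ n, ∀ c ∈ (fun S : List ℕ => L.filter fun b => S.any fun a => E.pair b a ≠ 0)^[n] [b],
        c ∈ P := fun n => by
      induction n with
      | zero => simpa using hb
      | succ n ih =>
        intro c hc
        rw [Function.iterate_succ_apply', List.mem_filter, List.any_eq_true] at hc
        obtain ⟨h3, a, h4, h5⟩ := hc
        exact hP.adj a (ih a h4) c (List.mem_toFinset.2 h3) (by simpa [pair_eq hE] using h5)
    exact key 8 c (h b (List.mem_toFinset.1 (hP.sub hb)) h1 c (List.mem_toFinset.1 hc) h2)⟩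

theorem tab_of {ρ : ℕ → ℕ} {ks : List ℕ} {par nxt dep : ℕ} (h : Mv E ks par nxt dep)
    (h' : ∀ κ ∈ ks, ∃ y d L c r₀, Cert D E κ y d L c r₀ ∧ ((∃ a, Con E L a) ∨
      ∀ v : T.W, (∀ a ∈ L, T.act v (ρ a) ∈ L) → ∃ a₁, ∀ P, Cl D (T.act v ∘ ρ) L.toFinset P →
        (∃ b ∈ P, b ≠ a₁) → ∀ b ∈ L.toFinset, b ≠ a₁ → b ∈ P)) : Tab T ρ := fun m hm h0 => by
  obtain ⟨w, κ, h1, h2⟩ := h.sound T hE hm h0
  obtain ⟨y, d, L, c, r₀, h3, h4⟩ := h' κ h1
  obtain ⟨h5, ⟨κ', h6⟩, h7⟩ := h3.sound T hE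
  exact ⟨w, _, _, κ', h2, h5, h6, h7, fun v hv => h4.elim (fun ⟨_, h⟩ => h.sound hE _) fun h =>
    h v fun a ha => List.mem_toFinset.1 (hv.mem_simple h5 (List.mem_toFinset.2 ha))⟩

omit hE

theorem mvG2 : Mv encG2 [0]
    0x100
    0x1030000
    0x1020000 := by
  decide +kernel

theorem certG2_0 : Cert chevG2 encG2 0 [2, 3] 1
    [6, 9] [8, 8] 7 ∧
    Con encG2 [6, 9] 6 := by
  decide +kernel

theorem mvF4 : Mv encF4 [0, 2]
    0x1202333321200100
    0xe040f060f0e0d0c0d070f0001030000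
    0x2010306030204070405030001020000 := by
  decide +kernel

theorem certF4_0 : Cert chevF4 encF4 0 [2, 3, 4, 2] 1
    [24, 25, 27, 41] [-4, 1, 0, 5] 33 ∧
    Con encF4 [24, 25, 27, 41] 1000 := by
  decide +kernel

theorem certF4_2 : Cert chevF4 encF4 2 [2, 4, 6, 3] 1
    [24, 27, 32, 33] [8, 11, 11, -19] 25 ∧
    Con encF4 [24, 27, 32, 33] 24 := by
  decide +kernel

theorem mvD4 : Mv encD4 [0, 1, 2, 3]
    0x1102130012000000
    0x2030f0e06080b000a04070001000000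
    0x1020203020103000201030001000000 := by
  decide +kernel

theorem certD4_0 : Cert chevD4 encD4 0 [2, 2, 1, 1] 2
    [12, 13, 14] [6, 6, -8] 0 ∧
    Con encD4 [12, 13, 14] 1000 := by
  decide +kernel

theorem certD4_1 : Cert chevD4 encD4 1 [1, 2, 1, 1] 1 [12, 13, 18, 23] [8, 8, 8, 8] 14 := by
  decide +kernel

theorem certD4_2 : Cert chevD4 encD4 2 [1, 2, 2, 1] 2
    [12, 14, 18] [6, -8, 6] 0 ∧
    Con encD4 [12, 14, 18] 1000 := by
  decide +kernel

theorem certD4_3 : Cert chevD4 encD4 3 [1, 2, 1, 2] 2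
    [13, 14, 18] [6, -8, 6] 0 ∧
    Con encD4 [13, 14, 18] 1000 := by
  decide +kernel

theorem mvE6 : Mv encE6 [0, 1]
    0x5545544355545454325335551225150544434343442441043232313312021000
    0x2f2e152c2b12112e2726251c231a211839273d3a3d3a39382f2f2c342b3225303736350a330c310e3f3e1c3c3b1a153819071b051d021f1e0f0f010d0b000000
    0x709040706050509080808030704090f060805060506060a07070704060508100909090208030a0e080a03080704040a0b0d09020a010a0a0c0c010a0b000000 := by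
  decide +kernel

theorem certE6_0 : Cert chevE6 encE6 0 [4, 3, 5, 6, 4, 2] 3
    [36, 37, 39, 42, 46] [4, 2, -14, 10, 10] 56 ∧
    Con encE6 [36, 37, 39, 42, 46] 1000 := by
  decide +kernel

theorem certE6_1 : Cert chevE6 encE6 1 [1, 2, 2, 3, 2, 1] 1
    [36, 37, 39, 42, 56, 71] [5, -4, 2, -4, 5, 8] 46 ∧
    Con encE6 [36, 37, 39, 42, 56, 71] 71 := by
  decide +kernel

theorem mvE7 : Mv encE7 [0, 1, 6]
    0x55655566555655546655655566556556644666434664446632663663126616605544544355445445325333551225110544334334442241042332013321020000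
    0x2f2e5d2c2b2a595827262554232221584f4e3d3c4b3a393847463534433231407f76757c7b7a714e7f76757c7b7a717059476d6c5d6a695e4f4f65644b6261006f6e15146b12112e67661d1c631a196039277d3a3d3c79782f2f2c742b2a257037360b0a330c0f303f3e1c1d3b1a153806181b050f021f1e0e0e010d07000000
    0x7090a07060c0b0f08080809070d090f0c0e050b0b06060a0d0d0a040c05090108090908070d0a0e08090908070d0a100b0d060c0a07070a0c0c0b050b060a000d0f040a0c0505090e0e09030d04080206080b06050b0c100707070a060c08100f0f08020e0307030e1003090d04040a06040f02070110100505011006000000 := by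
  decide +kernel

theorem certE7_0 : Cert chevE7 encE7 0 [2, 2, 3, 4, 3, 2, 1] 1
    [63, 64, 66, 69, 73, 78, 125] [5, -5, 7, -15, 10, 10, 8] 93 ∧
    Con encE7 [63, 64, 66, 69, 73, 78, 125] 125 := by
  decide +kernel

theorem certE7_1 : Cert chevE7 encE7 1 [4, 7, 8, 12, 9, 6, 3] 2
    [63, 64, 66, 69, 73, 93, 119] [-4, 1, 0, 1, -4, 5, 5] 78 ∧
    Con encE7 [63, 64, 66, 69, 73, 93, 119] 1000 := by
  decide +kernel

theorem certE7_6 : Cert chevE7 encE7 6 [2, 3, 4, 6, 5, 4, 3] 2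
    [64, 66, 69, 73, 78, 93] [4, 1, -9, 1, 9, 4] 63 ∧
    Con encE7 [64, 66, 69, 73, 78, 93] 1000 := by
  decide +kernel

theorem mvE8 : Mv encE8 [0, 2]
    0x7766776677667766667766776677667777667766776677666677667766776676557755775577557777557755775577554477447744774477773377337722770766556655665566545566556655665565664466436644664432663366126611664455445544554454553355335522550532443343124411443222330312001100
    0xbfbe5d5cbbba5958b7b65554b3b251504f4eadac4b4aa9a84746a5a44342a1a09f9e7d7c9b9a797897967574939271706f6e8d8c6b6a89886766858463628160efeefdfcebeaf9f8e7e6f5f4e3e2f1f0efeefdfcebeaf9f8e7e6f5f4e3e2f1f0b7b6dddcb3b2d9d8bfbed5d4bbbad1d0cfce9b9acbca9f9ec7c68c8dc3c285c0dfde2d2cdbda2928d7d62524d3d221583f3ecdcc3b3ac9c83736c5c43332c130fffe7574fbfa714ef7f67d7cf3f279785947edec5d5ce9e84f4fe5e44b4ae1e017166d6c131269681f1e65641b1a61187f7e3b3a7b7a3f3e77762c2d73722570091735340d0c310e1f1f3d3c1b1a3938190704051d1c0d1e0f0f01000b0a0000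
    0xe100a090d0c0b0f0f0f08090e0d09090c0e0c0b0b0a0d110d0d0a0b0c0b0b0b101007080f0e08080f1109080e0d0a100707100f06071111060810110506111b0d0f0b0a0c0b0c100e0e090a0d0c0a0a0d0f0b0a0c0b0c100e0e090a0d0c0a0a0f0f08090e0d09090e100a090d0c0b1108080f0e0708101007090f100607101c11110607100f0707101208070f0e090f0606111005061212050711120405121a0f1109080e0d0a0e101007080f0e08080b0d0d0c0a090e120c0c0b0c0b0a0c0c05051211040513130406121303041319121205061110060611130706100f08100305131402031418040413120304141415170102141502061616010015160000 := by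
  decide +kernel

theorem certE8_0 : Cert chevE8 encE8 0 [4, 5, 7, 10, 8, 6, 4, 2] 1
    [120, 121, 123, 126, 130, 135, 141, 226] [-4, 1, -1, 6, -15, 10, 10, 5] 162 ∧
    Con encE8 [120, 121, 123, 126, 130, 135, 141, 226] 1000 := by
  decide +kernel

theorem certE8_2 : Cert chevE8 encE8 2 [7, 10, 14, 20, 16, 12, 8, 4] 1
    [120, 121, 123, 126, 130, 141, 162, 184] [4, 1, -10, 6, -5, 5, 8, 9] 135 ∧
    Con encE8 [120, 121, 123, 126, 130, 141, 162, 184] 162 := by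
  decide +kernel

theorem parity (w : T.W) {r s : ℕ} (hr : r < 2 * T.N) (hs : s < 2 * T.N)
    (h : ∀ i : Fin D.rank, 2 ∣ D.pairing r (D.simple i) + D.pairing s (D.simple i)) :
    (∀ i : Fin D.rank, 2 ∣ D.pairing (T.act w r) (D.simple i) + D.pairing (T.act w s) (D.simple i)) ∧
      ∀ j, 2 ∣ cvec D (T.act w r) j + cvec D (T.act w s) j - (cvec D r j + cvec D s j) := by
  induction w using T.cs.simple_induction_left with
  | one => simpa using h
  | mul_simple_left w i ih =>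
    have h1 := T.act_lt w hr
    have h2 := T.act_lt w hs
    simp only [T.act_mul, T.act_simple _ h1, T.act_simple _ h2, T.pairing_refl_left _ h1,
      T.pairing_refl_left _ h2, T.cvec_refl _ _ h1, T.cvec_refl _ _ h2, Pi.sub_apply, Pi.smul_apply,
      smul_eq_mul]
    refine ⟨fun j => ?_, fun j => ?_⟩
    · exact ((ih.1 j).sub ((ih.1 i).mul_right (D.cartan i (D.simple j)))).trans (dvd_of_eq (by ring))
    · exact ((ih.2 j).sub ((ih.1 i).mul_right (sroot i j))).trans (dvd_of_eq (by ring))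

omit T

theorem tabG2 (T : RootTable chevG2) (ρ : ℕ → ℕ) : Tab T ρ := tab_of T encG2_agree mvG2 (by
  simp only [List.forall_mem_cons, List.not_mem_nil, false_imp_iff, implies_true, and_true]
  exact ⟨_, _, _, _, _, certG2_0.imp id fun h => .inl ⟨_, h⟩⟩)

theorem tabF4 (T : RootTable chevF4) (ρ : ℕ → ℕ) : Tab T ρ := tab_of T encF4_agree mvF4 (by
  simp only [List.forall_mem_cons, List.not_mem_nil, false_imp_iff, implies_true, and_true]
  exact ⟨⟨_, _, _, _, _, certF4_0.imp id fun h => .inl ⟨_, h⟩⟩,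
    ⟨_, _, _, _, _, certF4_2.imp id fun h => .inl ⟨_, h⟩⟩⟩)

theorem tabE6 (T : RootTable chevE6) (ρ : ℕ → ℕ) : Tab T ρ := tab_of T encE6_agree mvE6 (by
  simp only [List.forall_mem_cons, List.not_mem_nil, false_imp_iff, implies_true, and_true]
  exact ⟨⟨_, _, _, _, _, certE6_0.imp id fun h => .inl ⟨_, h⟩⟩,
    ⟨_, _, _, _, _, certE6_1.imp id fun h => .inl ⟨_, h⟩⟩⟩)

theorem tabE7 (T : RootTable chevE7) (ρ : ℕ → ℕ) : Tab T ρ := tab_of T encE7_agree mvE7 (by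
  simp only [List.forall_mem_cons, List.not_mem_nil, false_imp_iff, implies_true, and_true]
  exact ⟨⟨_, _, _, _, _, certE7_0.imp id fun h => .inl ⟨_, h⟩⟩,
    ⟨_, _, _, _, _, certE7_1.imp id fun h => .inl ⟨_, h⟩⟩,
    ⟨_, _, _, _, _, certE7_6.imp id fun h => .inl ⟨_, h⟩⟩⟩)

theorem tabE8 (T : RootTable chevE8) (ρ : ℕ → ℕ) : Tab T ρ := tab_of T encE8_agree mvE8 (by
  simp only [List.forall_mem_cons, List.not_mem_nil, false_imp_iff, implies_true, and_true]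
  exact ⟨⟨_, _, _, _, _, certE8_0.imp id fun h => .inl ⟨_, h⟩⟩,
    ⟨_, _, _, _, _, certE8_2.imp id fun h => .inl ⟨_, h⟩⟩⟩)

set_option synthInstance.maxSize 1000 in
theorem chk_tri : ∀ i ∈ [12, 13, 18, 23], ∀ j ∈ [12, 13, 18, 23], ∀ k ∈ [12, 13, 18, 23],
    ∀ l ∈ [12, 13, 18, 23], ∀ g : ℕ → ℕ, g = (fun r => if r = 12 then i else if r = 13 then j else
      if r = 18 then k else l) → (∀ a ∈ [12, 13, 18, 23], ∀ b ∈ [12, 13, 18, 23], ∀ n : Fin 4,
        2 ∣ cvec chevD4 (g a) n + cvec chevD4 (g b) n -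
          (cvec chevD4 (rhoD4 a) n + cvec chevD4 (rhoD4 b) n)) →
      ∃ a₁ ∈ [12, 13, 18, 23], ∀ b ∈ [12, 13, 18, 23], b ≠ a₁ → ∀ c ∈ [12, 13, 18, 23], c ≠ a₁ →
        c = b ∨ c = g b ∨ c = g (g b) := by
  simp only [forall_eq]
  decide +kernel

theorem tabD4 (T : RootTable chevD4) : Tab T rhoD4 := tab_of T encD4_agree mvD4 (by
  simp only [List.forall_mem_cons (l := [_, _, _]), List.forall_mem_cons (l := [_, _]),
    List.forall_mem_cons (l := [_]), List.forall_mem_singleton]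
  refine ⟨⟨_, _, _, _, _, certD4_0.imp id fun h => .inl ⟨_, h⟩⟩,
    ⟨_, _, _, _, _, certD4_1, .inr fun v hv => ?_⟩,
    ⟨_, _, _, _, _, certD4_2.imp id fun h => .inl ⟨_, h⟩⟩,
    ⟨_, _, _, _, _, certD4_3.imp id fun h => .inl ⟨_, h⟩⟩⟩
  have h0 : ∀ a ∈ [12, 13, 18, 23], rhoD4 a < chevD4.nroots ∧ ∀ b ∈ [12, 13, 18, 23],
      ∀ i : Fin chevD4.rank, 2 ∣ chevD4.pairing (rhoD4 a) (chevD4.simple i) +
        chevD4.pairing (rhoD4 b) (chevD4.simple i) := by decide +kernel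
  let g := fun r => if r = 12 then T.act v (rhoD4 12) else if r = 13 then T.act v (rhoD4 13) else
    if r = 18 then T.act v (rhoD4 18) else T.act v (rhoD4 23)
  have hg : ∀ r ∈ [12, 13, 18, 23], g r = T.act v (rhoD4 r) := by simp [g]
  obtain ⟨a, -, h⟩ := chk_tri _ (hv 12 (by simp)) _ (hv 13 (by simp)) _ (hv 18 (by simp)) _
    (hv 23 (by simp)) g rfl fun a ha b hb => by
      rw [hg a ha, hg b hb]
      exact (parity T v (T.lt_iff.1 (h0 a ha).1) (T.lt_iff.1 (h0 b hb).1) ((h0 a ha).2 b hb)).2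
  refine ⟨a, fun P hP ⟨b, hb, h1⟩ c hc h2 => ?_⟩
  have h3 : ∀ r ∈ P, g r ∈ P := fun r hr => hg r (List.mem_toFinset.1 (hP.sub hr)) ▸ hP.map r hr
  rcases h b (List.mem_toFinset.1 (hP.sub hb)) h1 c (List.mem_toFinset.1 hc) h2 with e | e | e <;>
    rw [e]
  exacts [hb, h3 _ hb, h3 _ (h3 _ hb)])

end Cfsg.Agent.Lang
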