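import Mathlib
import Cfsg.Agent.Lang.Invol
import Cfsg.Agent.Lang.TwMax
import Cfsg.Agent.Chev.TwistPres

/-! Tori of the group of type `E₆` over a field of characteristic two: words, centralisers of
elements of the torus from certificates, twisted Frobenius maps. -/

set_option autoImplicit false

namespace Cfsg.Agent.TE6

open Cfsg.Lie Cfsg.Agent.Chev Cfsg.Agent.Lang

/-- the root table -/
abbrev T : RootTable chevE6 := rootTableE6
/-- nodes -/
abbrev Nd : Type := Fin chevE6.rank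
/-- words -/
abbrev Wd : Type := List Nd

theorem n72 : chevE6.nroots = 72 := by decide +kernel
theorem N72 : 2 * T.N = 72 := T.nroots_eq.symm.trans n72
theorem hD : chevE6 ∈ [chevG2, chevB2, chevD4, chevF4, chevE6, chevE7, chevE8] := by simp

/-- the action of a word on roots -/
def ac (l : Wd) (r : ℕ) : ℕ := List.rec r (fun i _ s => encE6.w i s) l

theorem refl_eq : ∀ i < 6, ∀ r < 72, chevE6.reflectRoot i r = encE6.w i r := by
  simp only [encE6.refl_eq _ encE6_agree]
  decide +kernel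

theorem ac_eq (l : Wd) {r : ℕ} (hr : r < 72) : T.act (T.cs.wordProd l) r = ac l r := by
  induction l with
  | nil => exact T.act_one r
  | cons i l ih =>
    have := T.act_lt (T.cs.wordProd l) (N72 ▸ hr)
    rw [T.cs.wordProd_cons, T.act_mul, T.act_simple i this, ih]
    exact refl_eq i i.2 _ (ih ▸ N72 ▸ this)

theorem ac_lt (l : Wd) {r : ℕ} (hr : r < 72) : ac l r < 72 :=
  ac_eq l hr ▸ N72 ▸ T.act_lt _ (N72 ▸ hr)

theorem ac_append (l l' : Wd) (r : ℕ) : ac (l ++ l') r = ac l (ac l' r) := by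
  induction l with
  | nil => rfl
  | cons i l ih => exact congrArg (encE6.w i) ih

theorem sim_eq : chevE6.simple = encE6.sim := (encE6.agree_spec _ encE6_agree).2.2.1
theorem neg_eq : chevE6.neg = encE6.neg := (encE6.agree_spec _ encE6_agree).2.2.2.1
theorem car_eq : chevE6.cartan = encE6.car := (encE6.agree_spec _ encE6_agree).2.2.2.2.2.1
theorem sim_lt (i : Nd) : encE6.sim i < 72 := sim_eq ▸ N72 ▸ T.simple_lt i

/-- a vector given by a list -/
def yv (L : List ℤ) : ℕ → ℤ := nthL L 0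

/-- evaluation on roots -/
abbrev ev (L : List ℤ) : ℕ → ℤ := evE encE6 (yv L)

theorem ev_eq (L : List ℤ) : ev L = evY chevE6 (yv L) := evE_eq encE6_agree

/-- the roots killed modulo `n` -/
abbrev ps (L : List ℤ) (n : ℕ) : Set ℕ := psi T (yv L) n []

theorem mem_ps {L : List ℤ} {n r : ℕ} : r ∈ ps L n ↔ r < 72 ∧ ev L r % n = 0 := by
  simp [psi, N72, ev_eq]

/-- Search through the images of the fundamental roots. -/
def sr (cand : ℕ → List ℕ) (ok : List (ℕ × ℕ) → Bool) (m : ℕ) : List (ℕ × ℕ) → Bool :=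
  Nat.rec ok (fun i ih acc => allL (cand i) fun r =>
    !(allL acc fun p => isZ (encE6.pair r p.2 - encE6.pair (encE6.sim i) (encE6.sim p.1))) ||
      ih ((i, r) :: acc)) m

theorem sr_sound {cand : ℕ → List ℕ} {ok : List (ℕ × ℕ) → Bool} {f : ℕ → ℕ}
    (h1 : ∀ i < 6, f i ∈ cand i) (h2 : ∀ i < 6, ∀ j < 6,
      encE6.pair (f i) (f j) = encE6.pair (encE6.sim i) (encE6.sim j)) (m : ℕ) (hm : m ≤ 6)
    (acc : List (ℕ × ℕ)) (ha : ∀ p ∈ acc, p.1 < 6 ∧ p.2 = f p.1) (h : sr cand ok m acc = true) :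
    ok (((List.range m).map fun i => (i, f i)) ++ acc) = true := by
  induction m generalizing acc with
  | zero => exact h
  | succ m ih =>
    have := (allL_iff _ _).1 h _ (h1 m hm)
    simp only [Bool.or_eq_true, Bool.not_eq_true', ← Bool.not_eq_true, allL_iff, isZ_iff,
      sub_eq_zero] at this
    rw [List.range_succ, List.map_append, List.append_assoc]
    refine ih (by omega) _ ?_ (this.resolve_left fun h' => h' fun p hp => ?_)
    · rintro p (_ | ⟨_, hp⟩)
      exacts [⟨hm, rfl⟩, ha p hp]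
    · rw [(ha p hp).2, h2 m hm _ (ha p hp).1]

/-- A product of reflections. -/
def rw (w : List (Wd × Nd)) : Wd := w.flatMap fun d => d.1 ++ d.2 :: d.1.reverse

/-- The reflections are reflections in roots killed by `L`. -/
def inP (L : List ℤ) (n : ℕ) (w : List (Wd × Nd)) : Bool :=
  allL w fun d => isZ (ev L (ac d.1 (encE6.sim d.2)) % n)

theorem rw_mem {L : List ℤ} {n : ℕ} {w : List (Wd × Nd)} (h : inP L n w = true)
    {R : Subgroup T.W} (hR : ∀ a ∈ ps L n, ∀ w, IsRefl T a w → w ∈ R) :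
    T.cs.wordProd (rw w) ∈ R := by
  induction w with
  | nil => exact one_mem R
  | cons d w ih =>
    simp only [inP, allL_iff, List.forall_mem_cons, isZ_iff] at h ih
    rw [rw, List.flatMap_cons, T.cs.wordProd_append, T.cs.wordProd_append, T.cs.wordProd_cons,
      T.cs.wordProd_reverse, ← mul_assoc]
    refine mul_mem (hR _ (mem_ps.2 ⟨ac_lt _ (sim_lt _), h.1⟩) _ ?_) (ih h.2)
    have := isRefl_conj T (T.cs.wordProd d.1) d.2
    rwa [sim_eq, ac_eq _ (sim_lt _)] at this

theorem co_w : ∀ r < 72, (∀ j < 6, ∀ m < 6, m ≠ j → encE6.co (encE6.w j r) m = encE6.co r m) ∧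
    encE6.co (encE6.w 0 r) 0 = encE6.co r 2 - encE6.co r 0 ∧
    encE6.co (encE6.w 1 r) 1 = encE6.co r 3 - encE6.co r 1 ∧
    encE6.co (encE6.w 2 r) 2 = encE6.co r 0 + encE6.co r 3 - encE6.co r 2 ∧
    encE6.co (encE6.w 3 r) 3 = encE6.co r 1 + encE6.co r 2 + encE6.co r 4 - encE6.co r 3 ∧
    encE6.co (encE6.w 4 r) 4 = encE6.co r 3 + encE6.co r 5 - encE6.co r 4 ∧
    encE6.co (encE6.w 5 r) 5 = encE6.co r 4 - encE6.co r 5 := by decide +kernel

/-- The Weyl group acts trivially on weights modulo roots. -/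
theorem co_ac (l : Wd) : ∀ m < 6, (encE6.co (ac l (encE6.sim 0)) m + 2 * encE6.co (ac l (encE6.sim 2)) m +
    encE6.co (ac l (encE6.sim 4)) m + 2 * encE6.co (ac l (encE6.sim 5)) m) % 3 =
      yv [1, 0, 2, 0, 1, 2] m := by
  induction l with
  | nil => decide +kernel
  | cons j l ih =>
    intro m hm
    have h := fun i (hi : i < 6) => co_w (ac l (encE6.sim i)) (ac_lt l (sim_lt ⟨i, hi⟩))
    have h0 := h 0 (by norm_num); have h2 := h 2 (by norm_num)
    have h4 := h 4 (by norm_num); have h5 := h 5 (by norm_num)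
    simp only [show ∀ r, ac (j :: l) r = encE6.w j (ac l r) from fun _ => rfl]
    by_cases e : m = j
    · have i0 : _ = (1 : ℤ) := ih 0 (by norm_num)
      have i1 : _ = (0 : ℤ) := ih 1 (by norm_num)
      have i2 : _ = (2 : ℤ) := ih 2 (by norm_num)
      have i3 : _ = (0 : ℤ) := ih 3 (by norm_num)
      have i4 : _ = (1 : ℤ) := ih 4 (by norm_num)
      have i5 : _ = (2 : ℤ) := ih 5 (by norm_num)
      rw [← e, ← ih m hm]
      clear e
      interval_cases m <;> omega
    · rw [h0.1 j j.2 m hm e, h2.1 j j.2 m hm e, h4.1 j j.2 m hm e, h5.1 j j.2 m hm e, ih m hm]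

/-- The stabiliser of `L` modulo `n` consists of the listed products of reflections. -/
def chkC (L : List ℤ) (n : ℕ) (Wl : List (List (Wd × Nd))) : Bool :=
  allL Wl (inP L n) && sr (fun i => (List.range 72).filter fun r =>
    isZ (ev L r % n - ev L (encE6.sim i) % n))
    (fun acc => !isZ ((acc.map fun p => yv [1, 0, 2, 0, 1, 2] p.1 * encE6.co p.2 0).sum % 3 - 1) ||
      Wl.any fun w => allL acc fun p => Nat.beq p.2 (ac (rw w) (encE6.sim p.1))) 6 []

theorem chkC_sound {L : List ℤ} {n : ℕ} {Wl : List (List (Wd × Nd))} (h : chkC L n Wl = true)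
    (R : Subgroup T.W) (hR : ∀ a ∈ ps L n, ∀ w, IsRefl T a w → w ∈ R) :
    stabS T (yv L) n [] ≤ R := fun w hw => by
  rw [chkC, Bool.and_eq_true, allL_iff] at h
  have := sr_sound (f := fun i => T.act w (encE6.sim i)) (fun i hi => by
      have h1 := N72 ▸ sim_lt ⟨i, hi⟩
      simp only [List.mem_filter, List.mem_range, isZ_iff, sub_eq_zero, ev_eq]
      exact ⟨N72 ▸ T.act_lt w h1, hw.1 _ h1⟩)
    (fun i hi j hj => by
      rw [pair_eq encE6_agree]
      exact T.pairing_act w (N72 ▸ sim_lt ⟨i, hi⟩) (N72 ▸ sim_lt ⟨j, hj⟩)) 6 le_rfl [] (by simp) h.2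
  rw [Bool.or_eq_true, Bool.not_eq_true', ← Bool.not_eq_true, isZ_iff] at this
  replace this := this.resolve_left fun h => h (by
    obtain ⟨l, rfl⟩ := T.cs.wordProd_surjective w
    have h1 : _ = (1 : ℤ) := co_ac l 0 (by norm_num)
    have h2 := fun i (hi : i < 6) => ac_eq l (r := encE6.sim i) (sim_lt ⟨i, hi⟩)
    simp [List.range_succ, yv, nthL_eq, h2]
    omega)
  simp only [List.any_eq_true, allL_iff, Nat.beq_eq, List.append_nil, List.forall_mem_map,
    List.mem_range] at this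
  obtain ⟨v, hv, e⟩ := this
  rw [T.eq_of_act_eq (v := w) (w := T.cs.wordProd (rw v)) fun i => by
    rw [sim_eq, ac_eq _ (sim_lt i)]; exact e i i.2]
  exact rw_mem (h.1 v hv) hR

variable {k : Type*} [Field k]

/-- the group -/
abbrev Gk (k : Type*) [Field k] : Type _ := chevE6.group k
/-- root elements -/
noncomputable abbrev X : ℕ → k → Gk k := xC chevE6 k
/-- the torus -/
noncomputable abbrev H : Subgroup (Gk k) := Hs chevE6 X
/-- the torus map -/
noncomputable abbrev tc : (Nd → kˣ) →* Gk k := torC chevE6 T k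
/-- the system -/
noncomputable def S : ChevSys T (X (k := k)) := sysC k hD T

/-- elements of the torus -/
noncomputable def tz (ζ : kˣ) (L : List ℤ) : Gk k := tc fun i => ζ ^ yv L i

theorem tc_conj (c : Nd → kˣ) {r : ℕ} (hr : r < 72) (t : k) :
    tc c * X r t * (tc c)⁻¹ = X r (torChar chevE6 c r * t) :=
  torY_conj isSt_xC isR3_xC T c (n72 ▸ hr) t

theorem tc_mem (c : Nd → kˣ) : tc c ∈ H := torY_mem_Hs isSt_xC isR3_xC T c

theorem exists_tc {h : Gk k} (hh : h ∈ H) : ∃ c, tc c = h := exists_torY isSt_xC isR3_xC T hh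

theorem X_inj {r : ℕ} (hr : r < 72) {t u : k} (h : X r t = X r u) : t = u :=
  (isND_xC T).x_inj isSt_xC.toIsSt0 (N72 ▸ hr) h

theorem tc_eq_iff {c d : Nd → kˣ} : tc c = tc d ↔
    ∀ j : Nd, torChar chevE6 c (encE6.sim j) = torChar chevE6 d (encE6.sim j) := by
  rw [← mul_inv_eq_one, ← map_inv, ← map_mul, torC_eq_one_iff]
  refine forall_congr' fun j => ?_
  rw [← mul_inv_eq_one (a := torChar _ _ _), ← sim_eq]
  simp [torChar, cm, mul_zpow, Finset.prod_mul_distrib]

theorem chi_pow (c : Nd → kˣ) (m r : ℕ) :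
    torChar chevE6 (c ^ m) r = torChar chevE6 c r ^ m := map_pow (chi chevE6 r) c m

theorem chi_tz (ζ : kˣ) (L : List ℤ) (r : ℕ) :
    torChar chevE6 (fun i => ζ ^ yv L i) r = ζ ^ ev L r := by rw [torChar_zpow, ev_eq]

theorem zpow_eq_iff {ζ : kˣ} {n : ℕ} (hζ : IsPrimitiveRoot ζ n) {a b : ℤ} :
    ζ ^ a = ζ ^ b ↔ a % n = b % n := by
  rw [← mul_inv_eq_one, ← zpow_sub, hζ.zpow_eq_one_iff_dvd,
    Int.emod_eq_emod_iff_emod_sub_eq_zero, Int.dvd_iff_emod_eq_zero]

variable {ζ : kˣ} {n : ℕ} (hζ : IsPrimitiveRoot ζ n) (L : List ℤ)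
include hζ

theorem hΨ (r : ℕ) : r ∈ ps L n ↔
    r < 2 * T.N ∧ torChar chevE6 (fun i => ζ ^ yv L i) r = 1 := by
  rw [mem_ps, chi_tz, N72, hζ.zpow_eq_one_iff_dvd, Int.dvd_iff_emod_eq_zero]

theorem hS (w : T.W) : w ∈ stabS T (yv L) n [] ↔ ∀ r < 2 * T.N,
    torChar chevE6 (fun i => ζ ^ yv L i) (T.act w r) = torChar chevE6 (fun i => ζ ^ yv L i) r := by
  simp only [torChar_zpow, zpow_eq_iff hζ]
  exact ⟨fun h => h.1, fun h => ⟨h, by simp⟩⟩

theorem le_cent : H ⊔ XS X (ps L n) ≤ Subgroup.centralizer {tz ζ L} :=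
  le_centralizer_torY isSt_xC isR3_xC (hΨ hζ L)

theorem cent_eq {Wl : List (List (Wd × Nd))} (h : chkC L n Wl = true) :
    Subgroup.centralizer {tz ζ L} = H ⊔ XS X (ps L n) :=
  centralizer_torY (isND_xC T) isSt_xC Gs_xC isR3_xC (hΨ hζ L) (hS hζ L) (chkC_sound h)

theorem cent_reg (h : chkC L n [[]] = true) (h' : ∀ r < 72, ev L r % n ≠ 0) :
    Subgroup.centralizer {tz ζ L} = H := by
  rw [cent_eq hζ L h, Set.eq_empty_of_forall_notMem (s := ps L n) fun r hr =>
    h' r (mem_ps.1 hr).1 (mem_ps.1 hr).2, XS_empty, sup_bot_eq]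

theorem orderOf_tz (hn : n.Prime) (h : ∃ j : Nd, ev L (encE6.sim j) % n ≠ 0) :
    orderOf (tz ζ L) = n := by
  have := Fact.mk hn
  refine orderOf_eq_prime ?_ fun e => ?_
  · rw [tz, ← map_pow, ← map_one tc]
    congr 1
    funext i
    rw [Pi.pow_apply, ← zpow_natCast, ← zpow_mul, mul_comm, zpow_mul, zpow_natCast, hζ.pow_eq_one,
      one_zpow, Pi.one_apply]
  · obtain ⟨j, hj⟩ := h
    have := tc_eq_iff.1 (e.trans (map_one tc).symm) j
    rw [chi_tz, show torChar chevE6 (1 : Nd → kˣ) _ = 1 from map_one (chi chevE6 _),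
      hζ.zpow_eq_one_iff_dvd, Int.dvd_iff_emod_eq_zero] at this
    exact hj this

end Cfsg.Agent.TE6
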