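import Mathlib
import Cfsg.Agent.Lang.TwE62A
import Cfsg.Agent.Chev.TwistE6F
import Cfsg.Agent.St.RegUnip

/-! Models of `²E₆(2)` inside the algebraic group: twisted Frobenius maps and their fixed points
in the torus. -/

set_option autoImplicit false

namespace Cfsg.Agent.TE6

open Cfsg.Lie Cfsg.Agent.Chev Cfsg.Agent.Lang Finset

variable {k : Type*} [Field k]

/-- the twisted action on roots -/
def pl (l : Wd) (r : ℕ) : ℕ := ac l (rhoE6 r)

theorem rho_spec : ∀ r < 72, rhoE6 r < 72 ∧ rhoE6 (rhoE6 r) = r ∧ (epsE6 r = 1 ∨ epsE6 r = -1) ∧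
    (36 ≤ rhoE6 r ↔ 36 ≤ r) := by decide +kernel

theorem pl_lt (l : Wd) {r : ℕ} (hr : r < 72) : pl l r < 72 := ac_lt l (rho_spec r hr).1

theorem exists_ac (l : Wd) {s : ℕ} (hs : s < 72) : ∃ r < 72, ac l r = s := by
  have := N72 ▸ T.act_lt (T.cs.wordProd l)⁻¹ (N72 ▸ hs)
  exact ⟨_, this, (ac_eq l this).symm.trans (T.act_act_inv _ s)⟩

theorem exists_pl (l : Wd) {s : ℕ} (hs : s < 72) : ∃ r < 72, pl l r = s := by
  obtain ⟨r, hr, rfl⟩ := exists_ac l hs
  exact ⟨_, (rho_spec r hr).1, by rw [pl, (rho_spec r hr).2.1]⟩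

/-- `σ` permutes the root subgroups as `l` and squares the parameters -/
def WAct (l : Wd) (σ : Gk k →* Gk k) : Prop :=
  ∀ r < 72, ∃ c : k, c ≠ 0 ∧ ∀ t, σ (X r t) = X (pl l r) (c * t ^ 2)

/-- the same without scalars -/
def SAct (l : Wd) (σ : Gk k →* Gk k) : Prop := ∀ r < 72, ∀ t, σ (X r t) = X (pl l r) (t ^ 2)

theorem SAct.w {l : Wd} {σ : Gk k →* Gk k} (h : SAct l σ) : WAct l σ := fun r hr =>
  ⟨1, one_ne_zero, fun t => by rw [h r hr, one_mul]⟩

/-- an integral relation between characters -/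
def chkR (l : Wd) (a U : ℕ → ℤ) : Bool := allN 6 fun i => isZ (sumN 6 fun j =>
  a j * encE6.car i (encE6.sim j) - U j * (encE6.car i (pl l (encE6.sim j)) -
    2 * encE6.car i (encE6.sim j)))

theorem rel {l : Wd} {a U : ℕ → ℤ} (h : chkR l a U = true) {c : Nd → kˣ}
    (hc : ∀ r < 72, torChar chevE6 c (pl l r) = torChar chevE6 c r ^ 2) :
    ∏ j : Nd, torChar chevE6 c (encE6.sim j) ^ a j = 1 := by
  simp only [chkR, allN_iff, isZ_iff, sumN_eq, sum_sub_distrib, sub_eq_zero, sum_range] at h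
  have : ∏ j : Nd, (torChar chevE6 c (pl l (encE6.sim j)) /
      torChar chevE6 c (encE6.sim j) ^ (2 : ℤ)) ^ U j = 1 :=
    prod_eq_one fun j _ => by rw [hc _ (sim_lt j), zpow_ofNat, div_self', one_zpow]
  rw [← this]
  simp only [torChar, ← prod_zpow, ← zpow_mul, div_eq_mul_inv, ← zpow_neg,
    ← zpow_add, ← prod_mul_distrib, ← prod_inv_distrib]
  rw [prod_comm, prod_comm (f := fun (j : Nd) (i : Nd) => c i ^ (_ * U j))]
  refine prod_congr rfl fun i _ => ?_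
  rw [← zpow_finset_sum, ← zpow_finset_sum, car_eq]
  congr 1
  refine (sum_congr rfl fun j _ => mul_comm _ _).trans ((h i i.2).trans ?_)
  exact sum_congr rfl fun j _ => by ring

/-- conjugated endomorphisms -/
noncomputable def cj (m : Gk k) (σ : Gk k →* Gk k) : Gk k →* Gk k :=
  (MulAut.conj m⁻¹).toMonoidHom.comp (σ.comp (MulAut.conj m).toMonoidHom)

theorem cj_apply (m : Gk k) (σ : Gk k →* Gk k) (g : Gk k) :
    cj m σ g = m⁻¹ * σ (m * g * m⁻¹) * m := by simp [cj]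

theorem cj_eq (m : Gk k) (σ : Gk k →* Gk k) (g : Gk k) :
    cj m σ g = m⁻¹ * σ m * σ g * (m⁻¹ * σ m)⁻¹ := by simp [cj, mul_assoc]

theorem fix_of_cj {m g : Gk k} {σ : Gk k →* Gk k} (h : cj m σ g = g) :
    σ (m * g * m⁻¹) = m * g * m⁻¹ := by
  conv_rhs => rw [← h, cj_apply]
  group

variable [CharP k 2]

theorem nw_conj (l : Wd) {r : ℕ} (hr : r < 72) (t : k) :
    nw chevE6 X l * X r t * (nw chevE6 X l)⁻¹ = X (ac l r) t := by
  obtain ⟨-, η, h1, h2⟩ := conj_nw (T := T) (isSt_xC (F := k)) l (N72 ▸ hr)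
  rw [h2, List.foldr_map, ← ac_eq l hr, act_wordProd T l (N72 ▸ hr),
    show η = 1 by rcases h1 with rfl | rfl <;> simp [CharTwo.neg_eq], one_mul]
  congr 1
  clear h2
  induction l with
  | nil => rfl
  | cons i l ih => exact congrArg (chevE6.reflectRoot i) ih

theorem nw_eq_one {l : Wd} (h : ∀ r < 72, ac l r = r) : nw chevE6 (X (k := k)) l = 1 :=
  S.eq_one_of_comm fun r hr t => by rw [nw_conj l (N72 ▸ hr), h r (N72 ▸ hr)]

theorem X_sq {r : ℕ} (hr : r < 72) (t : k) : X r t * X r t = 1 := by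
  rw [isSt_xC.add r (n72 ▸ hr), CharTwo.add_self_eq_zero, isSt_xC.x_zero (n72 ▸ hr)]

theorem eq_one_of_sq {h : Gk k} (hh : h ∈ H) (e : h * h = 1) : h = 1 := by
  obtain ⟨c, rfl⟩ := exists_tc hh
  rw [← map_one tc] at e ⊢
  rw [← map_mul, ← sq] at e
  refine tc_eq_iff.2 fun j => Units.ext (CharTwo.sq_injective ?_)
  have := congrArg Units.val (tc_eq_iff.1 e j)
  rw [chi_pow] at this
  simpa [torChar] using this

theorem conj_tz {ζ : kˣ} {n : ℕ} (hζ : IsPrimitiveRoot ζ n) (w : Wd) {L L₁ L₂ : List ℤ} {a b : ℕ}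
    (h : ∀ r < 72, (a * ev L₁ (ac w r) + b * ev L₂ (ac w r)) % n = ev L r % n) :
    nw chevE6 X w * tz ζ L * (nw chevE6 X w)⁻¹ = tz ζ L₁ ^ a * tz ζ L₂ ^ b := by
  refine S.eq_of_conj fun s hs t => ?_
  obtain ⟨r, hr, rfl⟩ := exists_ac w (N72 ▸ hs)
  have e := nw_conj w hr (k := k)
  rw [tz, tz, tz, ← map_pow, ← map_pow, ← map_mul, tc_conj _ (N72 ▸ hs),
    show torChar chevE6 (_ * _) _ = _ from map_mul (chi chevE6 _) _ _]
  change _ = X _ ((torChar chevE6 _ _ * torChar chevE6 _ _ : kˣ) * t)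
  rw [chi_pow, chi_pow, chi_tz, chi_tz, ← zpow_natCast, ← zpow_natCast, ← zpow_mul, ← zpow_mul,
    ← zpow_add, mul_comm _ (a : ℤ), mul_comm _ (b : ℤ), (zpow_eq_iff hζ).2 (h r hr), ← chi_tz,
    ← e, ← e, ← tc_conj _ hr]
  group

variable (k) in
/-- the fourth power map -/
noncomputable abbrev f4 : k →+* k := iterateFrobenius k 2 2

variable {G : Type*} [Group G]

/-- `j` embeds `G` as the group attached to the Steinberg endomorphism `σ`. -/
structure M0 (σ : Gk k →* Gk k) (j : G →* Gk k) : Prop where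
  inj : Function.Injective j
  fix : ∀ g, σ (j g) = j g
  mem : ∀ g m, σ g = g → g ^ m = 1 → m.Coprime 3 → g ∈ j.range
  cent : ∀ g, (∀ a, Commute g (j a)) → g = 1
  lang : ∀ c (A : Set ℕ), (∀ r ∈ A, r < 72) → (∀ g ∈ XS X A, c * σ g * c⁻¹ ∈ XS X A) →
    ∀ y ∈ XS X A, ∃ g ∈ XS X A, y = g⁻¹ * (c * σ g * c⁻¹)
  lift : ∃ a, (∀ g, a * j g * a⁻¹ ∈ fixL chevE6 X (f4 k)) ∧
    ∀ g, σ (σ g) = cj a (fieldHom chevE6 (f4 k)) g

variable {σ : Gk k →* Gk k} {j : G →* Gk k}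

theorem M0.conj (h : M0 σ j) (m : Gk k) : M0 (cj m σ) ((MulAut.conj m⁻¹).toMonoidHom.comp j) where
  inj := (MulAut.conj m⁻¹).injective.comp h.inj
  fix g := by simp [cj_apply, mul_assoc, h.fix]
  mem g n e h1 h2 := by
    obtain ⟨a, ha⟩ := h.mem _ n (fix_of_cj e) (by rw [conj_pow, h1]; group) h2
    exact ⟨a, by simp [ha, mul_assoc]⟩
  cent g hg := by
    have := h.cent (m * g * m⁻¹) fun a => by
      simpa [mul_assoc] using (hg a).map (MulAut.conj m)
    rwa [conj_eq_one_iff] at this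
  lang c A hA h1 y hy := by
    have e : ∀ g, c * cj m σ g * c⁻¹ = c * (m⁻¹ * σ m) * σ g * (c * (m⁻¹ * σ m))⁻¹ := fun g => by
      rw [cj_eq]; group
    simp only [e] at h1 ⊢
    exact h.lang _ A hA h1 y hy
  lift := by
    obtain ⟨a, h1, h2⟩ := h.lift
    refine ⟨a * m, fun g => by simpa [mul_assoc] using h1 g, fun g => ?_⟩
    have := h2 (m * g * m⁻¹)
    simp only [cj_apply, mul_assoc, mul_inv_cancel_left, mul_inv_cancel, mul_one, mul_inv_rev]
      at this ⊢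
    rw [this]
    simp [mul_assoc]

theorem M0.comp (h : M0 σ j) (e : G ≃* G) : M0 σ (j.comp e.toMonoidHom) where
  inj := h.inj.comp e.injective
  fix g := h.fix _
  mem g n h0 h1 h2 := by
    obtain ⟨a, ha⟩ := h.mem g n h0 h1 h2
    exact ⟨e.symm a, by simpa using ha⟩
  cent g hg := h.cent g fun a => by simpa using hg (e.symm a)
  lang := h.lang
  lift := h.lift.imp fun _ ha => ⟨fun _ => ha.1 _, ha.2⟩

theorem M0.conj' (h : M0 σ j) {m : Gk k} (hm : σ m = m) :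
    M0 σ ((MulAut.conj m⁻¹).toMonoidHom.comp j) := by
  have := h.conj m
  rwa [show cj m σ = σ from MonoidHom.ext fun g => by simp [cj_eq, hm]] at this

theorem M0.twist (h : M0 σ j) {l : Wd} (ha : WAct l σ) {A : Set ℕ} (hA : ∀ r ∈ A, r < 72)
    (hs : ∀ r ∈ A, pl l r ∈ A) {y : Gk k} (hy : y ∈ XS X A) :
    ∃ m ∈ XS X A, ∀ g, cj m σ g = y * σ g * y⁻¹ := by
  obtain ⟨m, hm, rfl⟩ := h.lang 1 A hA (fun g hg => by
    rw [one_mul, inv_one, mul_one]
    refine (XS_le (K := (XS X A).comap σ)).2 (fun r hr t => ?_) hg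
    obtain ⟨c, -, e⟩ := ha r (hA r hr)
    rw [Subgroup.mem_comap, e]
    exact mem_XS (hs r hr) _) y hy
  exact ⟨m, hm, fun g => by simp [cj_eq]⟩

theorem M0.second (h : M0 σ j) {l : Wd} (ha : WAct l σ) {ζ : kˣ} {n : ℕ} (hζ : IsPrimitiveRoot ζ n)
    {L : List ℤ} (hs : ∀ r < 72, ev L r % n = 0 → ev L (pl l r) % n = 0) {w : List (Wd × Nd)}
    (hw : inP L n w = true) : ∃ m ∈ XS X (ps L n), WAct (rw w ++ l) (cj m σ) := by
  obtain ⟨y, hy, h1⟩ := exists_rep_XS isSt_xC (hΨ hζ L)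
    (S := Subgroup.zpowers (T.cs.wordProd (rw w)))
    (fun R hR => Subgroup.zpowers_le.2 (rw_mem hw hR)) (Subgroup.mem_zpowers _)
  obtain ⟨m, hm, e⟩ := h.twist ha (A := ps L n) (fun r hr => (mem_ps.1 hr).1) (fun r hr => mem_ps.2
    ⟨pl_lt l (mem_ps.1 hr).1, hs r (mem_ps.1 hr).1 (mem_ps.1 hr).2⟩) hy.1
  refine ⟨m, hm, fun r hr => ?_⟩
  obtain ⟨c, hc, e1⟩ := ha r hr
  obtain ⟨d, hd, e2⟩ := h1.conj (N72 ▸ pl_lt l hr)
  exact ⟨d * c, mul_ne_zero hd hc, fun t => by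
    rw [e, e1, e2, ac_eq _ (pl_lt l hr), mul_assoc, pl, pl, ac_append]⟩

omit [CharP k 2] in
theorem WAct.chi {l : Wd} (ha : WAct l σ) {c : Nd → kˣ} (h : σ (tc c) = tc c) :
    ∀ r < 72, torChar chevE6 c (pl l r) = torChar chevE6 c r ^ 2 := fun r hr => by
  obtain ⟨d, hd, e⟩ := ha r hr
  have := congrArg σ (tc_conj c hr 1)
  rw [map_mul, map_mul, map_inv, h, e, e, tc_conj _ (pl_lt l hr)] at this
  exact Units.ext (mul_right_cancel₀ hd (by simpa [mul_comm] using X_inj (pl_lt l hr) this))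

omit [CharP k 2] in
theorem WAct.pow_eq_one {l : Wd} (ha : WAct l σ) {N : ℕ} {U : List (List ℤ)}
    (hU : ∀ i < 6, chkR l (fun j => if j = i then N else 0) (yv (U.getD i [])) = true) {h : Gk k}
    (hh : h ∈ H) (e : σ h = h) : h ^ N = 1 := by
  obtain ⟨c, rfl⟩ := exists_tc hh
  rw [← map_pow, ← map_one tc]
  refine tc_eq_iff.2 fun i => ?_
  have := rel (hU i i.2) (ha.chi e)
  rw [prod_eq_single i (fun j _ hj => by rw [if_neg (Fin.val_ne_of_ne hj), zpow_zero]) (by simp),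
    if_pos rfl, zpow_natCast] at this
  rw [chi_pow, this]
  exact (map_one (Chev.chi chevE6 _)).symm

omit [CharP k 2] in
theorem WAct.mem_zpowers {l : Wd} (ha : WAct l σ) {ζ : kˣ} {m n : ℕ} [NeZero m]
    (hζ : IsPrimitiveRoot ζ (n * m)) (hn : 0 < n) {L : List ℤ} (i₀ : Nd) {U V : List (List ℤ)}
    (hU : ∀ i < 6, ev L (encE6.sim i) % n = 0 ∧ chkR l (fun j => (if j = i then 1 else 0) -
      (if j = i₀ then ev L (encE6.sim i) / n else 0) - m * yv (V.getD i []) j)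
      (yv (U.getD i [])) = true) {h : Gk k} (hh : h ∈ H) (e : σ h = h) (h3 : h ^ m = 1) :
    h ∈ Subgroup.zpowers (tz ζ L) := by
  obtain ⟨c, rfl⟩ := exists_tc hh
  rw [← map_pow, ← map_one tc, tc_eq_iff] at h3
  have h4 : ∀ i : Nd, torChar chevE6 c (encE6.sim i) ^ m = 1 := fun i =>
    (chi_pow c m _).symm.trans ((h3 i).trans (map_one (Chev.chi chevE6 _)))
  obtain ⟨a, ha'⟩ := (hζ.pow (Nat.mul_pos hn (NeZero.pos m)) rfl).zpowers_eq.ge
    ((mem_rootsOfUnity _ _).2 (h4 i₀))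
  refine ⟨a, ?_⟩
  change tz ζ L ^ a = _
  rw [tz, ← map_zpow]
  refine tc_eq_iff.2 fun i => ?_
  have := rel (hU i i.2).2 (ha.chi e)
  simp only [zpow_sub, zpow_mul, zpow_natCast, h4, one_zpow, inv_one, mul_one, prod_mul_distrib,
    prod_inv_distrib, Fin.val_inj, pow_ite, zpow_one, zpow_zero, prod_ite_eq', mem_univ, if_true,
    mul_inv_eq_one, ← ha'] at this
  refine (map_zpow (Chev.chi (K := k) chevE6 _) _ a).trans ?_
  rw [this, ← zpow_natCast,
    ← zpow_mul, ← zpow_mul, mul_comm a, ← mul_assoc,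
    Int.mul_ediv_cancel' (Int.dvd_of_emod_eq_zero (hU i i.2).1), zpow_mul, ← chi_tz]
  rfl

variable [IsAlgClosed k]

omit [CharP k 2] in
theorem WAct.fix {l : Wd} (ha : WAct l σ) {g : Gk k}
    (h : ∀ r < 72, ∀ t, σ (g * X r t * g⁻¹) = g * σ (X r t) * g⁻¹) : σ g = g := by
  refine S.eq_of_conj fun s hs t => ?_
  obtain ⟨r, hr, rfl⟩ := exists_pl l (N72 ▸ hs)
  obtain ⟨c, hc, e⟩ := ha r hr
  obtain ⟨u, hu⟩ := IsAlgClosed.exists_pow_nat_eq (t / c) two_pos
  rw [← mul_div_cancel₀ t hc, ← hu, ← e, ← h r hr, map_mul, map_mul, map_inv]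

omit [CharP k 2] in
theorem WAct.fix_tz {l : Wd} (ha : WAct l σ) {ζ : kˣ} {n : ℕ} (hζ : IsPrimitiveRoot ζ n)
    {L : List ℤ} (h : ∀ r < 72, ev L (pl l r) % n = ev L r * 2 % n) : σ (tz ζ L) = tz ζ L :=
  ha.fix fun r hr t => by
    obtain ⟨c, -, e⟩ := ha r hr
    rw [tz, tc_conj _ hr, e, e, tc_conj _ (pl_lt l hr), chi_tz, chi_tz, (zpow_eq_iff hζ).2 (h r hr),
      zpow_mul, zpow_ofNat, Units.val_pow_eq_pow_val, mul_pow, mul_left_comm]

theorem SAct.fix_nw {l : Wd} (ha : SAct l σ) {w : Wd} (h : ∀ r < 72, ac w (pl l r) = pl l (ac w r)) :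
    σ (nw chevE6 X w) = nw chevE6 X w :=
  ha.w.fix fun r hr t => by
    rw [nw_conj w hr, ha _ hr, ha _ (ac_lt w hr), nw_conj w (pl_lt l hr), h r hr]

/-- elements of the torus that lie in the group satisfy the equation of the universal torus -/
theorem M0.tor (h : M0 σ j) {l w : Wd} (ha : SAct l σ) (hw : ∀ r < 72, ac w r = pl l (pl l r))
    {g : G} {c : Nd → kˣ} (e : j g = tc c) :
    c = pw (c ^ 4) fun i i' : Nd => encE6.co (ac w (encE6.sim i)) i' := by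
  obtain ⟨a, h1, h2⟩ := h.lift
  have hf : ∀ t, f4 k t = t ^ 4 := fun t => iterateFrobenius_def 2 2 t
  have h0 : a⁻¹ * fieldHom chevE6 (f4 k) a = nw chevE6 X w := S.eq_of_conj fun r hr t => by
    obtain ⟨u, rfl⟩ := IsAlgClosed.exists_pow_nat_eq t (show 0 < 4 by norm_num)
    have := h2 (X r u)
    rw [ha r (N72 ▸ hr), ha _ (pl_lt l (N72 ▸ hr)), cj_eq, fieldHom_xC, hf, ← pow_mul] at this
    rw [← this, nw_conj w (N72 ▸ hr), hw r (N72 ▸ hr)]
  have hS := (isSt0_stGen (D := chevE6) (F := k)).isSt hD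
  have h3 := isR3_stGen (D := chevE6) (F := k)
  obtain ⟨θ, hθ⟩ := (isSt_xC (D := chevE6) (F := k)).toIsSt0.exists_lift3 isR3_xC T
  obtain ⟨φ, hφ⟩ : ∃ φ : chevE6.SteinbergGroup k →* chevE6.SteinbergGroup k,
      ∀ r < chevE6.nroots, ∀ t, φ (chevE6.stGen k r t) = chevE6.stGen k r (f4 k t) := by
    refine IsSt0.exists_lift3 (y := fun r t => chevE6.stGen k r (f4 k t)) ⟨fun r hr t u => ?_,
      fun r s hr hs h1 h2 t u => ?_⟩ (fun r hr t u ht hu => ?_) T
    · rw [hS.add r hr, map_add]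
    · rw [hS.comm r s hr hs h1 h2]
      simp [word, ChevalleyDatum.commWord, Function.comp_def]
    · simpa [hh, nn] using h3 r hr _ _ ((map_ne_zero (f4 k)).2 ht) ((map_ne_zero (f4 k)).2 hu)
  have hθφ : ∀ a, θ (φ a) = fieldHom chevE6 (f4 k) (θ a) := fun a => by
    have : Gs chevE6 (chevE6.stGen k) ≤ (θ.comp φ).eqLocus ((fieldHom chevE6 (f4 k)).comp θ) :=
      XS_le.2 fun r hr t => by
        change θ (φ _) = fieldHom chevE6 (f4 k) (θ _)
        rw [hφ r hr, hθ r hr, hθ r hr, fieldHom_xC]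
    exact this (by rw [Gs_stGen]; trivial)
  have hθt : ∀ c, θ (h3.torY hS T c) = tc c := fun c =>
    map_torY_field hS h3 T isSt_xC isR3_xC θ (RingHom.id k) hθ c
  have hker := hS.ker_eq_center T θ hθ Gs_stGen
  obtain ⟨a, rfl⟩ := surjective_of_hom θ hθ a
  obtain ⟨b, hb, hab⟩ := (map_fixL θ hθ (f4 k)).ge (h1 g)
  have hn : θ (nw chevE6 (chevE6.stGen k) w) = nw chevE6 X w := by
    clear * - hθ
    induction w with
    | nil => simp
    | cons i w ih => simp [ih, nn, hθ _ (T.simple_lt' i), hθ _ (T.neg_lt' (T.simple_lt' i))]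
  have h4 : a⁻¹ * φ a * (nw chevE6 (chevE6.stGen k) w)⁻¹ ∈ θ.ker := by
    rw [MonoidHom.mem_ker, map_mul, map_mul, map_inv, map_inv, hθφ, h0, hn, mul_inv_cancel]
  have h5 : a⁻¹ * b * a * (h3.torY hS T c)⁻¹ ∈ θ.ker := by
    rw [MonoidHom.mem_ker, map_mul, map_mul, map_mul, map_inv, map_inv, hab, hθt, e]; group
  obtain ⟨z, hz⟩ := exists_torY hS h3 T (hS.ker_le_Hs T θ hθ Gs_stGen h5)
  have hz1 : tc z = 1 := by rw [← hθt, hz]; exact h5
  have h6 : b = a * h3.torY hS T (z * c) * a⁻¹ := by rw [map_mul, hz]; group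
  have h7 := fix_of_mem_fixL hφ hb
  have hz4 : z ^ 4 = z := by
    have := (E6.tor_eq_one_iff (S (k := k)) (c := z)).1 (S.tor_eq_one_iff.2
      ((torC_eq_one_iff T).1 hz1))
    obtain ⟨a0, a1, a2, a3, a4, a5⟩ := this
    have : ∀ i : Fin 6, z i ^ 3 = 1 := fun i => by
      fin_cases i <;> simp [a0, a1, a2, a3, a4, a5, pow_right_comm _ 2]
    funext i
    rw [Pi.pow_apply, pow_succ, this i, one_mul]
  rw [h6, map_mul, map_mul, map_inv, map_torY_field hS h3 T hS h3 φ _ hφ,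
    show (fun i => Units.map (f4 k : k →* k) ((z * c) i)) = (z * c) ^ 4 from
      funext fun i => Units.ext (hf _)] at h7
  have h8 : h3.torY hS T (z * c) = h3.torY hS T (pw ((z * c) ^ 4) (wmat T (T.cs.wordProd w))) := by
    rw [← conj_torY hS h3 T (hS.acts_nw T w)]
    rw [hker, Subgroup.mem_center_iff] at h4
    calc _ = a⁻¹ * (φ a * h3.torY hS T ((z * c) ^ 4) * (φ a)⁻¹) * a := by rw [h7]; group
      _ = a⁻¹ * φ a * (nw chevE6 (chevE6.stGen k) w)⁻¹ * (nw chevE6 (chevE6.stGen k) w *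
          h3.torY hS T ((z * c) ^ 4) * (nw chevE6 (chevE6.stGen k) w)⁻¹) *
          (a⁻¹ * φ a * (nw chevE6 (chevE6.stGen k) w)⁻¹)⁻¹ := by group
      _ = _ := by rw [← h4, mul_inv_cancel_right]
  have h9 := torY_stGen_injective hD T hS h8
  rw [mul_pow, hz4, show pw (z * _) _ = pw z _ * pw _ _ from (pwHom (wmat T (T.cs.wordProd w))).map_mul _ _,
    pw_wmat_of_torC hD T hz1] at h9
  refine (mul_left_cancel h9).trans (congrArg (pw _) (funext fun i => funext fun i' => ?_))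
  rw [wmat, sim_eq, ac_eq _ (sim_lt i), ← (encE6.agree_spec _ encE6_agree).2.2.2.2.1]
  rfl

theorem exists_base {K : Type*} [Field K] [Fintype K] (hK : Fintype.card K = 4) (ι : K →+* k) :
    ∃ (σ : Gk k →* Gk k) (j : twistedE6 K 2 →* Gk k), M0 σ j ∧ SAct [] σ := by
  obtain ⟨S', φ, hφ, h2, hT⟩ := E6.exists_data (K := K) Nat.prime_two.isPrimePow hK
  have := (ι.charP_iff_charP 2).2 inferInstance
  have he : ∀ r < 72, ∀ {F : Type _} [Field F] [CharP F 2], ((epsE6 r : ℤ) : F) = 1 :=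
    fun r hr F _ _ => by rcases (rho_spec r hr).2.2.1 with e | e <;> simp [e, CharTwo.neg_eq]
  let σ := (fieldHom chevE6 (frobenius k 2)).comp (E6.sig S (RingHom.id k) fun _ => rfl)
  have hσ : SAct [] σ := fun r hr t => by
    change fieldHom _ _ (E6.sig _ _ _ _) = _
    rw [E6.sig, (E6.exists_sigma S (RingHom.id k) fun _ => rfl).choose_spec r (n72 ▸ hr), fieldHom_xC,
      he r hr, one_mul]
    rfl
  have hc : ∀ g, σ (fieldHom chevE6 ι g) = fieldHom chevE6 ι (E6.sig S' φ hφ g) :=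
    DFunLike.congr_fun (hom_ext_roots (φ := σ.comp (fieldHom chevE6 ι))
      (ψ := (fieldHom chevE6 ι).comp (E6.sig S' φ hφ)) fun r hr t => by
        change σ _ = fieldHom _ _ (E6.sig _ _ _ _)
        rw [E6.sig, (E6.exists_sigma S' φ hφ).choose_spec r hr, fieldHom_xC, fieldHom_xC,
          hσ r (n72 ▸ hr), show ((epsE6 r : ℤ) : K) = 1 by
            rcases (rho_spec r (n72 ▸ hr)).2.2.1 with e | e <;> simp [e, CharTwo.neg_eq], one_mul,
          h2, map_pow]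
        rfl)
  have hσ2 : ∀ r < chevE6.nroots, ∀ t, σ (σ (X r t)) = X r (t ^ 2 ^ 2) := fun r hr t => by
    rw [hσ r (n72 ▸ hr), hσ _ (pl_lt _ (n72 ▸ hr)), ← pow_mul]
    exact congrArg (X · _) (rho_spec r (n72 ▸ hr)).2.1
  have hF : ∀ g, σ (σ g) = fieldHom chevE6 (f4 k) g :=
    DFunLike.congr_fun (hom_ext_roots (φ := σ.comp σ) fun r hr t => by
      rw [fieldHom_xC]; exact hσ2 r hr t)
  have hr : (fieldHom chevE6 ι).range = fixL chevE6 X (f4 k) := range_fieldHom_frob ι (by rw [hK]; norm_num)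
  have hm : ∀ g m, σ g = g → g ^ m = 1 → m.Coprime 3 →
      g ∈ ((fieldHom chevE6 ι).comp (Subgroup.inclusion E6.le_group)).range := fun g m e h1 h3 => by
    have hf := fun r (_ : r < chevE6.nroots) t => fieldHom_xC (D := chevE6) (f4 k) r t
    obtain ⟨l, hl, h, hh, e1, e2⟩ := exists_of_fix (isND_xC T) isSt_xC hf
      (g := g) (by rw [Gs_xC]; trivial) (by rw [← hF, e, e])
    have h4 := Subgroup.mem_normalizer_iff.1 (mem_normalizer_fixL (isND_xC T) isSt_xC hf hh e1)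
    have h5 : h * h * h = 1 := by
      obtain ⟨c, rfl⟩ := exists_tc hh
      rw [tc, torC, map_torY_field isSt_xC isR3_xC T isSt_xC isR3_xC _ _ hf,
        show (fun i => Units.map (f4 k : k →* k) (c i)) = c * c * c * c from
          funext fun i => Units.ext (by simp [iterateFrobenius_def, pow_succ]), map_mul] at e1
      simpa [tc, torC] using e1
    have h6 : g ^ 3 ∈ (fieldHom chevE6 ι).range := by
      rw [hr, show g ^ 3 = l * (h * l * h⁻¹) * (h * (h * l * h⁻¹) * h⁻¹) * (h * h * h) by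
        rw [e2, pow_three]; group, h5, mul_one]
      exact mul_mem (mul_mem hl ((h4 _).1 hl)) ((h4 _).1 ((h4 _).1 hl))
    obtain ⟨a, ha⟩ := exists_pow_eq_self_of_coprime
      (h3.symm.coprime_dvd_right (orderOf_dvd_of_pow_eq_one h1))
    obtain ⟨u, rfl⟩ := ha ▸ pow_mem h6 a
    have : u ∈ (twistedE6 K 2).subgroupOf (chevE6.group K) := by
      rw [hT, E6.T_eq_Fix]
      exact fieldHom_injective ι ((hc u).symm.trans e)
    exact ⟨⟨u, this⟩, rfl⟩
  refine ⟨σ, (fieldHom chevE6 ι).comp (Subgroup.inclusion E6.le_group),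
    ⟨(fieldHom_injective ι).comp (Subgroup.inclusion_injective _), fun g => ?_, hm, fun g hg => ?_,
    fun c A hA h1 y hy => ?_, 1, fun g => ?_, fun g => by simp [cj_apply, hF]⟩, hσ⟩
  · have : Subgroup.inclusion E6.le_group g ∈ (twistedE6 K 2).subgroupOf (chevE6.group K) := g.2
    rw [hT, E6.T_eq_Fix] at this
    exact (hc _).trans (congrArg _ this)
  · have h0 : ∀ r < 72, commMod chevE6 0 r (rhoE6 r) = true → ∃ c : k,
        (rhoE6 r = r → c = 0) ∧ g * (X r 1 * X (rhoE6 r) c) * g⁻¹ = X r 1 * X (rhoE6 r) c := by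
      intro r hr hcm
      obtain ⟨k1, k2, -⟩ := rho_spec r hr
      have k3 := E6.comm (S (k := k)) r _ ⟨n72 ▸ hr, n72 ▸ k1, hcm⟩
      refine ⟨if rhoE6 r = r then 0 else 1, fun h => if_pos h, ?_⟩
      obtain ⟨a, ha⟩ := hm (X r 1 * X (rhoE6 r) (if rhoE6 r = r then 0 else 1)) 2 (by
        rw [map_mul, hσ r hr, hσ _ k1]
        change X (rhoE6 r) _ * X (rhoE6 (rhoE6 r)) _ = _
        split_ifs with h
        · simp [h]
        · simpa [k2] using (k3 1 1).eq.symm)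
        (by rw [(k3 _ _).mul_pow, sq, sq, X_sq hr, X_sq k1, one_mul]) (by norm_num)
      rw [← ha, (hg a).eq, mul_inv_cancel_right]
    have h1 : ∀ i : Fin 6, commMod chevE6 0 (chevE6.simple i) (rhoE6 (chevE6.simple i)) = true ∧
        commMod chevE6 0 (chevE6.neg (chevE6.simple i)) (rhoE6 (chevE6.neg (chevE6.simple i))) =
          true ∧ (36 ≤ chevE6.simple i ∧ chevE6.simple i < 72) ∧ chevE6.neg (chevE6.simple i) < 36 := by
      decide +kernel
    have hN : T.N = 36 := by have := N72; omega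
    have h3 : ∀ {A : Set ℕ} {r : ℕ} {c : k}, r < 72 → (rhoE6 r = r → c = 0) → rhoE6 r ∈ A →
        X (rhoE6 r) c ∈ XS X {s | s ∈ A ∧ s ≠ r} := fun {A r c} hr hc hA => by
      by_cases h : rhoE6 r = r
      · rw [hc h, X, isSt_xC.x_zero (n72 ▸ (rho_spec r hr).1)]; exact one_mem _
      · exact mem_XS (And.intro hA h) c
    have hH : g ∈ H := St.mem_Hs_of_conj (isND_xC T) isSt_xC (by rw [Gs_xC]; trivial) (fun i => by
      obtain ⟨k1, -, k2, -⟩ := h1 i
      obtain ⟨c, hc, e⟩ := h0 _ k2.2 k1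
      obtain ⟨k3, -, -, k4⟩ := rho_spec _ k2.2
      exact ⟨1, one_ne_zero, _, h3 k2.2 hc ⟨hN ▸ k4.2 k2.1, N72 ▸ k3⟩, e.symm ▸ Us_le_Bs (mul_mem
        (T.mem_Us' (hN ▸ k2.1) (N72 ▸ k2.2) 1) (T.mem_Us' (hN ▸ k4.2 k2.1) (N72 ▸ k3) c))⟩)
      fun i => by
        obtain ⟨-, k1, -, k2⟩ := h1 i
        have k0 := k2.trans (show 36 < 72 by norm_num)
        obtain ⟨c, hc, e⟩ := h0 _ k0 k1
        have k3 := hN ▸ not_le.1 fun h => k2.not_ge ((rho_spec _ k0).2.2.2.1 h)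
        exact ⟨1, one_ne_zero, _, h3 k0 hc k3, e.symm ▸ mul_mem (T.mem_Vs' (hN ▸ k2) 1)
          (T.mem_Vs' k3 c)⟩
    obtain ⟨d, rfl⟩ := exists_tc hH
    rw [← map_one tc]
    refine tc_eq_iff.2 fun i => Units.ext ?_
    obtain ⟨k1, -, k2, -⟩ := h1 i
    obtain ⟨c, hc, e⟩ := h0 _ k2.2 k1
    obtain ⟨k3, -, -, k4⟩ := rho_spec _ k2.2
    rw [← conj_mul, tc_conj _ k2.2, tc_conj _ k3, mul_one] at e
    rw [← sim_eq, show torChar chevE6 (1 : Nd → kˣ) _ = 1 from map_one (chi chevE6 _)]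
    by_cases h : rhoE6 (chevE6.simple i) = chevE6.simple i
    · rw [hc h, mul_zero, mul_left_inj] at e
      exact X_inj k2.2 e
    · exact ((S (k := k)).inj₂ T.nil_pos' ⟨hN ▸ k2.1, N72 ▸ k2.2⟩ ⟨hN ▸ k4.2 k2.1, N72 ▸ k3⟩
        (by simpa using Ne.symm h) e).1
  · have := stFrob_adj (D := chevE6) 2 (σ := σ) (m := 2) (e := 2) two_pos (by norm_num)
      (fun r hr => ⟨_, n72 ▸ pl_lt [] (n72 ▸ hr), Polynomial.X ^ 2, fun t => by
        rw [hσ r (n72 ▸ hr)]; simp⟩) hσ2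
    exact this.lang (this.conn_XS fun r hr => n72 ▸ hA r hr) h1 hy
  · rw [one_mul, inv_one, mul_one, ← hr]
    exact ⟨_, rfl⟩

theorem exists_model {K : Type*} [Field K] [Fintype K] (hK : Fintype.card K = 4) (ι : K →+* k)
    (l : Wd) : ∃ (σ : Gk k →* Gk k) (j : twistedE6 K 2 →* Gk k), M0 σ j ∧ SAct l σ := by
  obtain ⟨σ, j, h, ha⟩ := exists_base hK ι
  obtain ⟨m, -, e⟩ := h.twist ha.w (A := {r | r < chevE6.nroots}) (fun r hr => n72 ▸ hr)
    (fun r hr => n72.symm ▸ pl_lt [] (n72 ▸ hr)) (y := nw chevE6 X l)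
    (show _ ∈ Gs chevE6 X by rw [Gs_xC]; trivial)
  exact ⟨_, _, h.conj m, fun r hr t => by rw [e, ha r hr, nw_conj l (pl_lt [] hr)]; rfl⟩

end Cfsg.Agent.TE6
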