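import Mathlib
import Cfsg.Agent.Lang.TwE62B
import Cfsg.Agent.S1066
import Cfsg.Agent.S1070

/-! Tools for the local analysis of `²E₆(2)` inside the algebraic group. -/

set_option autoImplicit false

namespace Cfsg.Agent.TE6

open Cfsg.Lie Cfsg.Agent.Chev Cfsg.Agent.Lang Finset Subgroup

section Grp

variable {G : Type*} [Group G] {p : ℕ} (hp : p.Prime)
include hp

theorem exists_conj_le [Finite G] {n : ℕ} {Q P : Subgroup G} (hQ : Nat.card Q = p ^ n)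
    (h : ¬ p ^ (n + 1) ∣ Nat.card G) (hP : IsPGroup p P) :
    ∃ g, ∀ y ∈ P, MulAut.conj g y ∈ Q := by
  have := Fact.mk hp
  obtain ⟨R, hR⟩ := hP.exists_le_sylow
  obtain ⟨P', hP'⟩ := (IsPGroup.of_card hQ).exists_le_sylow
  obtain ⟨k, rfl⟩ := MulAction.exists_smul_eq G R P'
  obtain ⟨m, hm⟩ := IsPGroup.iff_card.1 (k • R).isPGroup'
  rw [Subgroup.eq_of_le_of_card_ge hP' (by
    rw [hQ, hm]
    refine Nat.pow_le_pow_right hp.pos (not_lt.1 fun h' => h ((pow_dvd_pow p h').trans ?_))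
    exact hm ▸ Subgroup.card_subgroup_dvd_card _)]
  exact ⟨k, fun y hy => Subgroup.smul_mem_pointwise_smul _ (MulAut.conj k) _ (hR hy)⟩

theorem eq_zpowers {P : Subgroup G} (hP : Nat.card P = p) {y : G} (hy : y ∈ P) (h1 : y ≠ 1) :
    P = zpowers y := by
  have : Finite P := Nat.finite_of_card_ne_zero (hP ▸ hp.ne_zero)
  refine (Subgroup.eq_of_le_of_card_ge (zpowers_le.2 hy) ?_).symm
  rw [hP, Nat.card_zpowers, ((Nat.dvd_prime hp).1 (hP ▸ orderOf_dvd_natCard P hy)).resolve_left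
    (mt orderOf_eq_one_iff.1 h1)]

theorem sup_zpowers {u v : G} (hu : orderOf u = p) (hv : orderOf v = p) (hc : Commute u v)
    (hn : v ∉ zpowers u) : Nat.card ↥(zpowers u ⊔ zpowers v) = p ^ 2 ∧
      ∀ y ∈ zpowers u ⊔ zpowers v, ∃ a < p, ∃ b < p, y = u ^ a * v ^ b := by
  have h1 : ∀ (a : zpowers u) (b : zpowers v), Commute (a : G) (b : G) := by
    rintro ⟨_, a, rfl⟩ ⟨_, b, rfl⟩; exact hc.zpow_zpow a b
  let f := (zpowers u).subtype.noncommCoprod (zpowers v).subtype h1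
  have h2 : f.range = zpowers u ⊔ zpowers v := by
    rw [MonoidHom.noncommCoprod_range _ _ h1, range_subtype, range_subtype]
  have h3 : Function.Injective f := (MonoidHom.noncommCoprod_injective _ _ _).2
    ⟨subtype_injective _, subtype_injective _, by
      rw [range_subtype, range_subtype, Subgroup.disjoint_def]
      intro y h4 h5
      by_contra h6
      exact hn (zpowers_le.2 h4 (eq_zpowers hp (by simp [hv]) h5 h6 ▸ mem_zpowers v))⟩
  have h4 : ∀ {w y : G}, orderOf w = p → y ∈ zpowers w → ∃ a < p, w ^ a = y := fun {w y} hw hy => by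
    classical
    simpa [hw] using (IsOfFinOrder.mem_zpowers_iff_mem_range_orderOf
      (orderOf_pos_iff.1 (hw ▸ hp.pos))).1 hy
  rw [← h2]
  refine ⟨by rw [← Nat.card_congr (MonoidHom.ofInjective h3).toEquiv]; simp [hu, hv, sq], ?_⟩
  rintro _ ⟨⟨a, b⟩, rfl⟩
  obtain ⟨c, hc, e⟩ := h4 hu a.2
  obtain ⟨d, hd, e'⟩ := h4 hv b.2
  exact ⟨c, hc, d, hd, by rw [e, e']; rfl⟩

theorem exists_comm [Finite G] {t : G} (ht : t ^ p = 1) {P : Subgroup G}
    (hn : t ∈ normalizer (P : Set G)) (hc : ¬ Nat.card P ≡ 1 [MOD p]) :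
    ∃ y ∈ P, y ≠ 1 ∧ Commute t y := by
  classical
  have := Fact.mk hp
  have := Fintype.ofFinite P
  by_contra! h
  let f : P → P := fun y => ⟨t * y * t⁻¹, (mem_normalizer_iff.1 hn y).1 y.2⟩
  have h1 : ∀ m (y : P), (f^[m] y : G) = t ^ m * y * (t ^ m)⁻¹ := fun m y => by
    induction m with
    | zero => simp
    | succ m ih =>
      rw [Function.iterate_succ_apply', pow_succ', show (f (f^[m] y) : G) = t * f^[m] y * t⁻¹ from rfl, ih]
      group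
  have := Equiv.Perm.card_fixedPoints_modEq (α := P) (f := f) (p := p) (n := 1) (by
    rw [pow_one]
    exact funext fun y => Subtype.ext ((h1 p y).trans (by simp [ht]; rfl)))
  refine hc (Nat.card_eq_fintype_card (α := P) ▸ this.trans (Eq.trans (congrArg (· % p)
    (Fintype.card_eq_one_iff.2 ⟨⟨1, Subtype.ext (by simp [f])⟩, fun y => ?_⟩)) rfl))
  by_contra e
  exact h _ y.1.2 (fun e' => e (Subtype.ext (Subtype.ext e')))
    (mul_inv_eq_iff_eq_mul.1 (congrArg Subtype.val y.2))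

theorem conj_eq_or {x e : G} (hx : orderOf x = p) (he : e * e = 1)
    (hn : e ∈ normalizer (zpowers x : Set G)) : e * x * e⁻¹ = x ∨ e * x * e⁻¹ = x⁻¹ := by
  obtain ⟨i, hi⟩ := mem_zpowers_iff.1 ((mem_normalizer_iff.1 hn x).1 (mem_zpowers x))
  have h1 : x ^ (i * i) = x ^ (1 : ℤ) := by
    rw [zpow_mul, hi, conj_zpow, hi, zpow_one]
    simp [mul_assoc, ← mul_assoc e e, ← mul_inv_rev, he]
  rw [zpow_eq_zpow_iff_modEq, hx, Int.modEq_iff_dvd, show 1 - i * i = (1 - i) * -(-1 - i) by ring,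
    (Nat.prime_iff_prime_int.1 hp).dvd_mul, dvd_neg, ← Int.modEq_iff_dvd, ← Int.modEq_iff_dvd, ← hx,
    ← zpow_eq_zpow_iff_modEq, ← zpow_eq_zpow_iff_modEq, hi] at h1
  simpa using h1

end Grp

variable {k : Type*} [Field k]

theorem tz_pow (ζ : kˣ) (m : ℕ) (L : List ℤ) : tz (ζ ^ m) L = tz ζ L ^ m := by
  rw [tz, tz, ← map_pow]
  exact congrArg tc (funext fun i => by
    rw [Pi.pow_apply, ← zpow_natCast, ← zpow_natCast, ← zpow_mul, ← zpow_mul, mul_comm])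

theorem tz_mem (ζ : kˣ) (L : List ℤ) : tz ζ L ∈ H := tc_mem _

theorem comm_H {a b : Gk k} (ha : a ∈ H) (hb : b ∈ H) : Commute a b := by
  obtain ⟨c, rfl⟩ := exists_tc ha
  obtain ⟨d, rfl⟩ := exists_tc hb
  exact (Commute.all c d).map tc

section Root

variable {ζ : kˣ} {n : ℕ} (hζ : IsPrimitiveRoot ζ n)
include hζ

theorem tz_pow_eq_one (L : List ℤ) : tz ζ L ^ n = 1 := by
  rw [← tz_pow, hζ.pow_eq_one, tz, ← map_one tc]
  exact congrArg tc (funext fun i => one_zpow _)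

theorem comm_X {L : List ℤ} {r : ℕ} (hr : r < 72) :
    Commute (tz ζ L) (X r 1) ↔ ev L r % n = 0 := by
  rw [Commute, SemiconjBy, ← mul_inv_eq_iff_eq_mul, tz, tc_conj _ hr, mul_one, chi_tz,
    ← Int.dvd_iff_emod_eq_zero, ← hζ.zpow_eq_one_iff_dvd, ← Units.val_eq_one]
  exact ⟨X_inj hr, fun h => by rw [h]⟩

theorem tz_eq_pow {L L' : List ℤ} {a : ℕ} : tz ζ L = tz ζ L' ^ a ↔
    ∀ i < 6, ev L (encE6.sim i) % n = a * ev L' (encE6.sim i) % n := by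
  rw [tz, tz, ← map_pow, tc_eq_iff]
  simp only [chi_pow, chi_tz]
  simp only [← zpow_natCast, ← zpow_mul, zpow_eq_iff hζ, mul_comm _ (a : ℤ)]
  exact ⟨fun h i hi => h ⟨i, hi⟩, fun h i => h i i.2⟩

theorem notMem_zpowers {L L' : List ℤ} {r : ℕ} (h : r < 72 ∧ ev L r % n = 0 ∧ ev L' r % n ≠ 0) :
    tz ζ L' ∉ zpowers (tz ζ L) := fun ⟨a, e⟩ =>
  h.2.2 ((comm_X hζ h.1).1 (e ▸ ((comm_X hζ h.1).2 h.2.1).zpow_left a))

end Root

/-- elements of order three of the torus -/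
def cw (e : ℕ) : List ℤ :=
  let a : ℤ := (e % 3 : ℕ); let b : ℤ := (e / 3 % 3 : ℕ); let c : ℤ := (e / 9 % 3 : ℕ)
  let d : ℤ := (e / 27 % 3 : ℕ); let f : ℤ := (e / 81 % 3 : ℕ); let g : ℤ := (e / 243 % 3 : ℕ)
  [4 * a + 3 * b + 5 * c + 6 * d + 4 * f + 2 * g, 3 * a + 6 * b + 6 * c + 9 * d + 6 * f + 3 * g,
   5 * a + 6 * b + 10 * c + 12 * d + 8 * f + 4 * g, 6 * a + 9 * b + 12 * c + 18 * d + 12 * f + 6 * g,
   4 * a + 6 * b + 8 * c + 12 * d + 10 * f + 5 * g, 2 * a + 3 * b + 4 * c + 6 * d + 5 * f + 4 * g]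

theorem ev_cw : ∀ e < 729, ∀ i < 6, ev (cw e) (encE6.sim i) = (3 * (e / 3 ^ i % 3) : ℕ) := by
  decide +kernel

theorem exists_cw {ω : kˣ} (hω : IsPrimitiveRoot ω 9) {h : Gk k} (hh : h ∈ H) (h3 : h ^ 3 = 1) :
    ∃ e < 729, h = tz ω (cw e) := by
  obtain ⟨c, rfl⟩ := exists_tc hh
  rw [← map_pow, ← map_one tc, tc_eq_iff] at h3
  have h4 : ∀ i : Fin 6, ∃ a : Fin 3, (ω ^ 3) ^ (a : ℕ) = torChar chevE6 c (encE6.sim i) := fun i => by
    obtain ⟨a, ha, e⟩ := (hω.pow (by norm_num) (show 9 = 3 * 3 from rfl)).eq_pow_of_mem_rootsOfUnity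
      ((mem_rootsOfUnity _ _).2 ((chi_pow c 3 _).symm.trans ((h3 i).trans (map_one (chi chevE6 _)))))
    exact ⟨⟨a, ha⟩, e⟩
  choose f hf using h4
  refine ⟨finFunctionFinEquiv f, (finFunctionFinEquiv f).2, tc_eq_iff.2 fun i => ?_⟩
  rw [chi_tz, ev_cw _ (finFunctionFinEquiv f).2 _ i.2, ← hf i, zpow_natCast, pow_mul]
  exact congrArg (_ ^ Fin.val ·) (congrFun (finFunctionFinEquiv.symm_apply_apply f) i).symm

theorem cw_pow {ω : kˣ} (hω : IsPrimitiveRoot ω 9) {e : ℕ} (he : e < 729) : tz ω (cw e) ^ 3 = 1 := by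
  have h : tz ω (cw 0) = tz ω (cw e) ^ 3 := (tz_eq_pow hω).2 fun i hi => by
    rw [ev_cw _ he i hi, ev_cw 0 (by norm_num) i hi, Nat.zero_div]; omega
  rw [← h, (tz_eq_pow hω (L' := []) (a := 0)).2 (by decide +kernel), pow_zero]

/-- `L` is multiplied by `f` -/
def fx (l : Wd) (f : ℕ) (L : List ℤ) (n : ℕ) : Prop :=
  ∀ r < 72, f * ev L (pl l r) % n = ev L r * 2 % n

instance (l : Wd) (f : ℕ) (L : List ℤ) (n : ℕ) : Decidable (fx l f L n) :=
  inferInstanceAs (Decidable (∀ r < 72, _))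

variable {G : Type*} [Group G] {σ : Gk k →* Gk k} {j : G →* Gk k} {l : Wd}

theorem WAct.fx {ζ : kˣ} {n : ℕ} (ha : WAct l σ) (hζ : IsPrimitiveRoot ζ n) {L : List ℤ} {f : ℕ}
    (h : σ (tz ζ L) = tz ζ L ^ f) : fx l f L n := fun r hr => by
  obtain ⟨d, hd, e⟩ := ha r hr
  have := congrArg σ (tc_conj (fun i => ζ ^ yv L i) hr 1)
  rw [map_mul, map_mul, map_inv, ← tz, h, e, e, tz, ← map_pow, tc_conj _ (pl_lt l hr), chi_pow,
    chi_tz, chi_tz] at this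
  rw [← zpow_eq_iff hζ, mul_comm, zpow_mul, zpow_mul, zpow_natCast, zpow_ofNat]
  exact Units.ext (mul_right_cancel₀ hd (by simpa [mul_comm] using X_inj (pl_lt l hr) this))

variable [CharP k 2] [IsAlgClosed k]

omit [CharP k 2] in
theorem WAct.map_tz {ζ : kˣ} {n : ℕ} (ha : WAct l σ) (hζ : IsPrimitiveRoot ζ n) {L : List ℤ} {f : ℕ}
    (h : TE6.fx l f L n) : σ (tz ζ L) = tz ζ L ^ f := by
  refine S.eq_of_conj fun s hs t => ?_
  obtain ⟨r, hr, rfl⟩ := exists_pl l (N72 ▸ hs)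
  obtain ⟨c, hc, e⟩ := ha r hr
  obtain ⟨u, hu⟩ := IsAlgClosed.exists_pow_nat_eq (t / c) two_pos
  rw [← mul_div_cancel₀ t hc, ← hu, ← e, ← map_inv, ← map_mul, ← map_mul, tz, tc_conj _ hr, e, e,
    ← map_pow, tc_conj _ (pl_lt l hr), chi_pow, chi_tz, chi_tz, ← zpow_natCast (ζ ^ _), ← zpow_mul,
    mul_comm _ (f : ℤ), (zpow_eq_iff hζ).2 (h r hr), zpow_mul, zpow_ofNat, Units.val_pow_eq_pow_val,
    mul_pow, mul_left_comm]

variable (k) in
theorem exists_root {n : ℕ} (hn : Odd n) : ∃ ζ : kˣ, IsPrimitiveRoot ζ n := by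
  have : NeZero (n : k) := ⟨by rw [CharTwo.natCast_eq_ite, if_neg (Nat.not_even_iff_odd.2 hn)]; simp⟩
  obtain ⟨ζ, h⟩ := HasEnoughRootsOfUnity.exists_primitiveRoot k n
  exact ⟨_, h.isUnit_unit hn.pos.ne'⟩

theorem mem_H {g : Gk k} (h : ∀ a ∈ H, Commute g a) : g ∈ H := by
  obtain ⟨ζ, hζ⟩ := exists_root k (n := 13) (by decide)
  rw [← cent_reg hζ [8, 11, 15, 21, 15, 8] (by decide +kernel) (by decide +kernel)]
  exact mem_centralizer_singleton_iff.2 (h _ (tz_mem _ _))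

theorem M0.exists_tz (h : M0 σ j) (ha : WAct l σ) {ζ : kˣ} {n : ℕ} (hζ : IsPrimitiveRoot ζ n)
    {L : List ℤ} (hL : n.Coprime 3 ∧ fx l 1 L n) : ∃ g, j g = tz ζ L :=
  h.mem _ n ((ha.map_tz hζ hL.2).trans (pow_one _)) (tz_pow_eq_one hζ L) hL.1

omit [IsAlgClosed k] in
theorem M0.ord (h : M0 σ j) (g : G) : orderOf (j g) = orderOf g := orderOf_injective j h.inj g

omit [IsAlgClosed k] in
theorem M0.comm (h : M0 σ j) {a b : G} (e : Commute (j a) (j b)) : Commute a b :=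
  h.inj (by rw [map_mul, map_mul, e.eq])

/-- the elements of order three multiplied by `f` and killing `A` are the powers of `cw s` -/
def chk3 (l : Wd) (f : ℕ) (A : List ℕ) (s : ℕ) : Prop :=
  s < 729 ∧ s ≠ 0 ∧ fx l f (cw s) 9 ∧ ∀ e < 729, (∀ r ∈ A, ev (cw e) r % 9 = 0) → fx l f (cw e) 9 →
    ∃ a < 3, ∀ i < 6, ev (cw e) (encE6.sim i) % 9 = (a : ℕ) * ev (cw s) (encE6.sim i) % 9

instance (l : Wd) (f : ℕ) (A : List ℕ) (s : ℕ) : Decidable (chk3 l f A s) :=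
  inferInstanceAs (Decidable (_ ∧ _))

omit [CharP k 2] [IsAlgClosed k] in
theorem chk3.mem {f s : ℕ} {A : List ℕ} (c : chk3 l f A s) (ha : WAct l σ) {ω : kˣ}
    (hω : IsPrimitiveRoot ω 9) {h : Gk k} (hh : h ∈ H) (h3 : h ^ 3 = 1) (e : σ h = h ^ f)
    (hA : ∀ r ∈ A, r < 72 ∧ Commute h (X r 1)) : ∃ a < 3, h = tz ω (cw s) ^ a := by
  obtain ⟨d, hd, rfl⟩ := exists_cw hω hh h3
  obtain ⟨a, h1, h2⟩ := c.2.2.2 d hd (fun r hr => (comm_X hω (hA r hr).1).1 (hA r hr).2) (ha.fx hω e)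
  exact ⟨a, h1, (tz_eq_pow hω).2 h2⟩

/-- The normaliser of `P` normalises a subgroup of order three of the torus. -/
theorem M0.notmax [IsSimpleGroup G] (h : M0 σ j) (ha : WAct l σ) {ζ ω : kˣ} {p : ℕ}
    (hζ : IsPrimitiveRoot ζ p) (hω : IsPrimitiveRoot ω 9) {y : List ℤ} {Wl : List (List (Wd × Nd))}
    {f s : ℕ} {A : List ℕ} (c : chkC y p Wl = true ∧
      (∀ r < 72, ev y r % p = 0 → ev (cw s) r % 9 = 0) ∧ chk3 l f A s)
    {P : Subgroup G} {x : G} (hx : x ∈ P) (h1 : x ≠ 1) (e : j x = tz ζ y) (hP : ∀ g ∈ P, j g ∈ H)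
    (hA : ∀ r ∈ A, r < 72 ∧ ∀ g ∈ P, Commute (j g) (X r 1)) {t : G}
    (h2 : Commute (j t) (tz ω (cw s))) (h3 : t ∉ normalizer (P : Set G)) :
    ¬ IsCoatom (normalizer (P : Set G)) := fun hm => by
  have k1 : ∀ n ∈ normalizer (P : Set G), ∃ a : ℕ, j n * tz ω (cw s) * (j n)⁻¹ = tz ω (cw s) ^ a := by
    intro n hn
    have k2 : ∀ b, (∀ g ∈ P, Commute (j g) b) → Commute (j n * tz ω (cw s) * (j n)⁻¹) b := by
      intro b hb
      have k3 : (j n)⁻¹ * b * j n ∈ centralizer {tz ζ y} := by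
        rw [mem_centralizer_singleton_iff, ← e]
        simpa [mul_assoc] using
          ((hb _ ((mem_normalizer_iff.1 hn x).1 hx)).map (MulAut.conj (j n)⁻¹)).eq.symm
      rw [cent_eq hζ y c.1] at k3
      have k4 := mem_centralizer_singleton_iff.1 (le_cent hω (cw s) (sup_le_sup_left (XS_mono
        fun r hr => mem_ps.2 ⟨(mem_ps.1 hr).1, c.2.1 r (mem_ps.1 hr).1 (mem_ps.1 hr).2⟩) _ k3))
      simpa [mul_assoc] using (Commute.symm k4).map (MulAut.conj (j n))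
    obtain ⟨a, -, ha⟩ := c.2.2.mem ha hω (mem_H fun a ha => k2 a fun g hg => comm_H (hP g hg) ha)
      (by rw [conj_pow, cw_pow hω c.2.2.1]; group)
      (by rw [map_mul, map_mul, map_inv, h.fix, ha.map_tz hω c.2.2.2.2.1, conj_pow])
      fun r hr => ⟨(hA r hr).1, k2 _ (hA r hr).2⟩
    exact ⟨a, ha⟩
  let C := (centralizer {tz ω (cw s)}).comap j
  have k2 : ∀ g, g ∈ C ↔ Commute (j g) (tz ω (cw s)) := fun g => mem_centralizer_singleton_iff
  have k3 : ∀ n ∈ normalizer (P : Set G), ∀ g ∈ C, n * g * n⁻¹ ∈ C := fun n hn g hg => by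
    obtain ⟨a, ha⟩ := k1 _ (inv_mem hn)
    have := (((k2 g).1 hg).pow_right a).map (MulAut.conj (j n))
    rw [← ha] at this
    simpa [k2, mul_assoc] using this
  have k4 : normalizer (C : Set G) = ⊤ := hm.2 _ (lt_of_le_of_ne (fun n hn =>
    mem_normalizer_iff.2 fun g => ⟨k3 n hn g, fun hg => by
      simpa [mul_assoc] using k3 _ (inv_mem hn) _ hg⟩)
    fun e => h3 (e ▸ le_normalizer ((k2 t).2 h2)))
  rcases (normalizer_eq_top_iff.1 k4).eq_bot_or_eq_top with k5 | k5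
  · exact h1 (mem_bot.1 (k5 ▸ (k2 x).2 (comm_H (hP x hx) (tz_mem _ _))))
  · have k6 := (tz_eq_pow hω (L' := []) (a := 0)).1
      (h.cent _ fun a => ((k2 a).1 (k5 ▸ mem_top a)).symm)
    have : ∀ s < 729, (∀ i < 6, (3 * (s / 3 ^ i % 3) : ℕ) % ((9 : ℕ) : ℤ) = 0) → s = 0 := by
      decide +kernel
    exact c.2.2.2.1 (this s c.2.2.1 fun i hi => by simpa [ev_cw s c.2.2.1 i hi] using k6 i hi)

theorem M0.exists_elt (h : M0 σ j) (ha : WAct l σ) {ω : kˣ} (hω : IsPrimitiveRoot ω 9) {s : List ℤ}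
    {w : List (Wd × Nd)} {r : ℕ} {y : List ℤ} (c : (∀ r < 72, ev s r % 9 = 0 → ev s (pl l r) % 9 = 0) ∧
      inP s 9 w = true ∧ r.Prime ∧ Odd r ∧ r.Coprime 3 ∧ fx (rw w ++ l) 1 y r ∧
      ∃ j : Fin 6, ev y (encE6.sim j) % r ≠ 0) : ∃ t, orderOf t = r ∧ Commute (j t) (tz ω s) := by
  obtain ⟨c1, c2, c3, c4, c5, c6, c7⟩ := c
  obtain ⟨m, hm, hb⟩ := h.second ha hω c1 c2
  obtain ⟨ζ, hζ⟩ := exists_root k c4
  obtain ⟨t, ht⟩ := (h.conj m).exists_tz hb hζ ⟨c5, c6⟩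
  refine ⟨t, by rw [← (h.conj m).ord, ht, orderOf_tz hζ y c3 c7], ?_⟩
  have k1 : Commute m (tz ω s) := mem_centralizer_singleton_iff.1 (le_cent hω s (mem_sup_right hm))
  have k2 := (comm_H (tz_mem ζ y) (tz_mem ω s)).map (MulAut.conj m)
  rw [← ht] at k2
  simpa [mul_assoc, k1.eq] using k2

omit [IsAlgClosed k] in
theorem M0.not_norm (h : M0 σ j) (ha : WAct l σ) {ζ : kˣ} {p M : ℕ} (hp : p.Prime)
    (hζ : IsPrimitiveRoot ζ (M * p)) {y y₂ y₃ : List ℤ} {w : List (Wd × Nd)} {a b : ℕ}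
    (c : 0 < M ∧ (∀ r < 72, ev y₂ r % M = 0 → ev y₂ (pl l r) % M = 0) ∧ inP y₂ M w = true ∧
      (∀ r ∈ [a, b], r < 72 ∧ pl (rw w ++ l) r = r ∧ ev y₂ r % M = 0) ∧ a ≠ b ∧
      commMod chevE6 0 a b = true ∧ chkC y₃ (M * p) [[]] = true ∧
      (∀ r < 72, ev y₃ r % (M * p : ℕ) ≠ 0 ∧
        (M * ev y r + p * ev y₂ r) % (M * p : ℕ) = ev y₃ r % (M * p : ℕ)))
    {x : G} (hx : orderOf x = p) (e : j x = tz (ζ ^ M) y) :
    ∃ t, j t ∈ XS X (ps y₂ M) ∧ t ∉ normalizer (zpowers x : Set G) := by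
  obtain ⟨c0, c1, c2, c3, c4, c5, c6, c7⟩ := c
  have hM := hζ.pow (Nat.mul_pos c0 hp.pos) (mul_comm M p)
  obtain ⟨m, hm, hb⟩ := h.second ha hM c1 c2
  have k1 : ∀ r ∈ [a, b], ∃ c ≠ 0, ∃ t, j t = m * X r c * m⁻¹ ∧ j t ∈ XS X (ps y₂ M) := fun r hr => by
    obtain ⟨d1, d2, d3⟩ := c3 r hr
    obtain ⟨c, hc, e⟩ := hb r d1
    obtain ⟨t, ht⟩ := h.mem _ 2 (fix_of_cj (m := m) (g := X r c⁻¹) (by
      rw [e, d2, sq, mul_inv_cancel_left₀ hc])) (by rw [conj_pow, sq, X_sq d1]; group) (by norm_num)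
    exact ⟨_, inv_ne_zero hc, t, ht, ht ▸ mul_mem (mul_mem hm (mem_XS (mem_ps.2 ⟨d1, d3⟩) _))
      (inv_mem hm)⟩
  obtain ⟨c, hc, u, hu, hu'⟩ := k1 a (by simp)
  obtain ⟨d, hd, v, hv, hv'⟩ := k1 b (by simp)
  have ha := (c3 a (by simp)).1
  have hb := (c3 b (by simp)).1
  have k2 : ∀ t, j t ∈ XS X (ps y₂ M) → t * t = 1 → t * x * t⁻¹ = x → j t = 1 := fun t h1 h2 h3 => by
    refine eq_one_of_sq ?_ (by rw [← map_mul, h2, map_one])
    have := conj_tz hζ [] (L := y₃) (L₁ := y) (L₂ := y₂) fun r hr => (c7 r hr).2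
    rw [nw_nil, one_mul, inv_one, mul_one, ← tz_pow, ← tz_pow, ← e] at this
    rw [← cent_reg hζ y₃ c6 fun r hr => (c7 r hr).1, mem_centralizer_singleton_iff, this]
    exact (Commute.map (mul_inv_eq_iff_eq_mul.1 h3) j).mul_right
      (mem_centralizer_singleton_iff.1 (le_cent hM y₂ (mem_sup_right h1)))
  have k3 : u * u = 1 := h.inj (by rw [map_mul, hu, conj_mul, X_sq ha, map_one]; group)
  have k4 : v * v = 1 := h.inj (by rw [map_mul, hv, conj_mul, X_sq hb, map_one]; group)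
  have k5 : Commute u v := h.comm (by
    rw [hu, hv]; exact (E6.comm S a b ⟨n72 ▸ ha, n72 ▸ hb, c5⟩ c d).map (MulAut.conj m))
  by_contra! k6
  have k7 : ∀ {r : ℕ} {c : k} {t : G}, r < 72 → c ≠ 0 → j t = m * X r c * m⁻¹ → j t ≠ 1 :=
    fun hr hc ht e => hc ((isND_xC T).eq_zero_of_x_eq_one (N72 ▸ hr) (conj_eq_one_iff.1 (ht ▸ e)))
  have k8 := (conj_eq_or hp hx k3 (k6 u hu')).resolve_left fun e => k7 ha hc hu (k2 u hu' k3 e)
  have k9 := (conj_eq_or hp hx k4 (k6 v hv')).resolve_left fun e => k7 hb hd hv (k2 v hv' k4 e)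
  have := k2 (u * v) (map_mul j u v ▸ mul_mem hu' hv') (by rw [← sq, k5.mul_pow, sq, sq, k3, k4, one_mul])
    (by rw [mul_inv_rev, mul_assoc u, mul_assoc u, ← mul_assoc _ v⁻¹, k9, ← mul_assoc, ← conj_inv, k8,
      inv_inv])
  rw [map_mul, hu, hv, conj_mul, conj_eq_one_iff, ← X_sq hb d, mul_left_inj] at this
  exact c4 ((isND_xC T).root_eq_of_x_eq isSt_xC.toIsSt0 (N72 ▸ ha) (N72 ▸ hb) hc this)

omit [IsAlgClosed k] in
theorem nw_pow {w : Wd} {m : ℕ} (h : ∀ r < 72, (ac w)^[m] r = r) :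
    nw chevE6 (X (k := k)) w ^ m = 1 := by
  have : ∀ m : ℕ, ∀ r < 72, ∀ t : k, nw chevE6 X w ^ m * X r t * (nw chevE6 X w ^ m)⁻¹ =
      X ((ac w)^[m] r) t := fun m => by
    induction m with
    | zero => simp
    | succ m ih =>
      intro r hr t
      rw [Function.iterate_succ_apply, ← ih _ (ac_lt w hr), ← nw_conj w hr, pow_succ]; group
  exact S.eq_one_of_comm fun r hr t => (this m r (N72 ▸ hr) t).trans (by rw [h r (N72 ▸ hr)])

section Setup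

variable {K : Type*} [Field K] [Fintype K] (hK : Fintype.card K = 4)
include hK

theorem card_G : Nat.card (twistedE6 K 2) = 2 ^ 36 * 3 ^ 9 * 5 ^ 2 * 7 ^ 2 * 11 * 13 * 17 * 19 := by
  have := S1066.result (K := K) Nat.prime_two.isPrimePow hK
  norm_num at this ⊢
  omega

theorem simple_G : IsSimpleGroup (twistedE6 K 2) :=
  (S1070.result (K := K) Nat.prime_two.isPrimePow hK).1

theorem charP_closure : CharP (AlgebraicClosure K) 2 := by
  have : CharP K 2 := charP_of_card_eq_prime_pow (f := 2) hK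
  infer_instance

end Setup

end Cfsg.Agent.TE6
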