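import Mathlib
import Cfsg.Agent.Lang.TwE62C

/-! Normalisers of `p`-subgroups, `p > 5`, of `²E₆(2)` are not maximal. -/

set_option autoImplicit false

namespace Cfsg.Agent.TE6

open Cfsg.Lie Cfsg.Agent.Chev Cfsg.Agent.Lang Finset Subgroup

variable {G : Type*} [Group G] [Finite G]

theorem exists_gen {p : ℕ} (hp : p.Prime) {x : G} (hx : orderOf x = p) (hG : ¬ p ^ 2 ∣ Nat.card G)
    {P : Subgroup G} (hP : IsPGroup p P) (h1 : P ≠ ⊥) :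
    ∃ g y, P = zpowers y ∧ MulAut.conj g y = x := by
  obtain ⟨g, hg⟩ := exists_conj_le hp (n := 1) (Q := zpowers x) (by simp [hx]) hG hP
  obtain ⟨⟨z, hz⟩, h2⟩ := ne_bot_iff_exists_ne_one.1 h1
  obtain ⟨i, hi⟩ := (eq_zpowers hp (by simp [hx]) (hg z hz) (by simpa using h2)).le (mem_zpowers x)
  have e : MulAut.conj g (z ^ i) = x := (map_zpow _ _ _).trans hi
  refine ⟨g, z ^ i, le_antisymm (fun a ha => ?_) (zpowers_le.2 (zpow_mem hz i)), e⟩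
  obtain ⟨m, hm⟩ := hg a ha
  exact ⟨m, (MulAut.conj g).injective (by rw [← hm, map_zpow, e])⟩

variable {k : Type*} [Field k] [CharP k 2] [IsAlgClosed k] [IsSimpleGroup G]
  {σ : Gk k →* Gk k} {j : G →* Gk k} {l : Wd}

omit [IsAlgClosed k] [Finite G] [IsSimpleGroup G] [CharP k 2] in
theorem mem_H_of_zpowers {x : G} {ζ : kˣ} {y : List ℤ} (e : j x = tz ζ y) :
    ∀ g ∈ zpowers x, j g ∈ H := by
  rintro _ ⟨m, rfl⟩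
  rw [map_zpow, e]
  exact zpow_mem (tz_mem _ _) m

theorem M0.reg (h : M0 σ j) (ha : WAct l σ) {p N r s : ℕ} {y y' : List ℤ} {U : List (List ℤ)}
    {w : List (Wd × Nd)} (c : (p.Prime ∧ Odd p ∧ (p.Coprime 3 ∧ fx l 1 y p) ∧
      (∀ r < 72, ev y r % p ≠ 0) ∧ ¬ p ≡ 1 [MOD r] ∧ ¬ r ∣ N ∧
      ∀ i < 6, chkR l (fun j => if j = i then N else 0) (yv (U.getD i [])) = true) ∧
      (chkC y p [[]] = true ∧ (∀ r < 72, ev y r % p = 0 → ev (cw s) r % 9 = 0) ∧ chk3 l 1 [] s) ∧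
      (∀ r < 72, ev (cw s) r % 9 = 0 → ev (cw s) (pl l r) % 9 = 0) ∧
      inP (cw s) 9 w = true ∧ r.Prime ∧ Odd r ∧ r.Coprime 3 ∧ fx (rw w ++ l) 1 y' r ∧
      ∃ j : Fin 6, ev y' (encE6.sim j) % r ≠ 0) (hG : ¬ p ^ 2 ∣ Nat.card G) :
    (∀ a t : G, orderOf a = p → Commute t a → t ^ N = 1) ∧
      ∀ P : Subgroup G, IsPGroup p P → P ≠ ⊥ → ¬ IsCoatom (normalizer (P : Set G)) := by
  obtain ⟨⟨hp, c1, c2, c3, c4, c5, c6⟩, c7, c8⟩ := c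
  obtain ⟨ζ, hζ⟩ := exists_root k c1
  obtain ⟨ω, hω⟩ := exists_root k (n := 9) (by decide)
  obtain ⟨x, hx⟩ := h.exists_tz ha hζ c2
  have h1 : orderOf x = p := by
    rw [← h.ord, hx, orderOf_tz hζ y hp ⟨(0 : Fin 6), c3 _ (sim_lt _)⟩]
  have h2 : ∀ a t : G, orderOf a = p → Commute t a → t ^ N = 1 := fun a t h2 h3 => by
    have := Fact.mk hp
    obtain ⟨g, b, e, rfl⟩ := exists_gen hp h1 hG (P := zpowers a) (IsPGroup.of_card (n := 1)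
      (by simp [h2])) (by rw [Ne, zpowers_eq_bot, ← orderOf_eq_one_iff, h2]; exact hp.ne_one)
    obtain ⟨m, rfl⟩ := e.ge (mem_zpowers b)
    have := ha.pow_eq_one c6 (h := j (MulAut.conj g t)) (by
      rw [← cent_reg hζ y c7.1 c3, mem_centralizer_singleton_iff, ← hx]
      exact ((h3.zpow_right m).map (MulAut.conj g)).map j) (h.fix _)
    rwa [← map_pow, map_eq_one_iff _ h.inj, ← map_pow, map_eq_one_iff _ (MulAut.conj g).injective]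
      at this
  refine ⟨h2, fun P hP h3 => ?_⟩
  obtain ⟨g, b, rfl, rfl⟩ := exists_gen hp h1 hG hP h3
  rw [MulEquiv.orderOf_eq] at h1
  obtain ⟨t, ht, h4⟩ := (h.comp (MulAut.conj g)).exists_elt ha hω c8
  refine (h.comp (MulAut.conj g)).notmax ha hζ hω c7 (mem_zpowers b) (by simpa using h3) hx
    (mem_H_of_zpowers hx) (by simp) h4 fun h5 => ?_
  obtain ⟨a, h6, h7, h8⟩ := exists_comm c8.2.2.1 (ht ▸ pow_orderOf_eq_one t) h5 (by simpa [h1] using c4)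
  refine c5 (ht ▸ orderOf_dvd_of_pow_eq_one (h2 a t ?_ h8))
  rw [← Nat.card_zpowers, ← eq_zpowers hp (by simp [h1]) h6 h7, Nat.card_zpowers, h1]

omit [Finite G] in
theorem M0.four (h : M0 σ j) (ha : WAct l σ) {ζ : kˣ} {p M f s a b : ℕ}
    (hζ : IsPrimitiveRoot ζ (M * p)) {y y₂ y₃ : List ℤ} {w : List (Wd × Nd)} {A : List ℕ}
    {Wl : List (List (Wd × Nd))} (c : (p.Prime ∧ (∃ j : Fin 6, ev y (encE6.sim j) % p ≠ 0) ∧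
      (∀ r ∈ A, r < 72 ∧ ev y r % p = 0) ∧ ∀ r < 72, ev y₂ r % M = 0 → ev (cw s) r % 9 = 0) ∧
      (chkC y p Wl = true ∧ (∀ r < 72, ev y r % p = 0 → ev (cw s) r % 9 = 0) ∧ chk3 l f A s) ∧
      0 < M ∧ (∀ r < 72, ev y₂ r % M = 0 → ev y₂ (pl l r) % M = 0) ∧ inP y₂ M w = true ∧
      (∀ r ∈ [a, b], r < 72 ∧ pl (rw w ++ l) r = r ∧ ev y₂ r % M = 0) ∧ a ≠ b ∧
      commMod chevE6 0 a b = true ∧ chkC y₃ (M * p) [[]] = true ∧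
      (∀ r < 72, ev y₃ r % (M * p : ℕ) ≠ 0 ∧
        (M * ev y r + p * ev y₂ r) % (M * p : ℕ) = ev y₃ r % (M * p : ℕ)))
    {x : G} (e : j x = tz (ζ ^ M) y) : ¬ IsCoatom (normalizer (zpowers x : Set G)) := by
  obtain ⟨⟨hp, c1, c2, c3⟩, c4, c5⟩ := c
  obtain ⟨ω, hω⟩ := exists_root k (n := 9) (by decide)
  have h1 := hζ.pow (Nat.mul_pos c5.1 hp.pos) rfl
  have h2 : orderOf x = p := by rw [← h.ord, e, orderOf_tz h1 y hp c1]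
  obtain ⟨t, h3, h4⟩ := h.not_norm ha hp hζ c5 h2 e
  refine h.notmax ha h1 hω c4 (mem_zpowers x) (mt orderOf_eq_one_iff.2 (h2 ▸ hp.ne_one)) e
    (mem_H_of_zpowers e) (fun r hr => ⟨(c2 r hr).1, ?_⟩) (mem_centralizer_singleton_iff.1
      (le_cent hω _ (mem_sup_right (XS_mono (fun r hr => mem_ps.2 ⟨(mem_ps.1 hr).1,
        c3 r (mem_ps.1 hr).1 (mem_ps.1 hr).2⟩) h3)))) h4
  rintro _ ⟨m, rfl⟩
  rw [map_zpow, e]
  exact ((comm_X h1 (c2 r hr).1).2 (c2 r hr).2).zpow_left m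

/-- the word for the torus `11 × 3` -/
def l33 : Wd := ([3, 2, 0] : List (Fin 6))

theorem M0.eleven (h : M0 σ j) (ha : WAct l33 σ) (hG : ¬ 11 ^ 2 ∣ Nat.card G) {P : Subgroup G}
    (hP : IsPGroup 11 P) (h1 : P ≠ ⊥) : ¬ IsCoatom (normalizer (P : Set G)) := by
  obtain ⟨ζ, hζ⟩ := exists_root k (n := 5 * 11) (by decide)
  have h2 := hζ.pow (by norm_num) (show 5 * 11 = 5 * 11 from rfl)
  obtain ⟨x, hx⟩ := h.exists_tz ha h2 (L := [6, 0, 2, 2, 4, 1]) (by decide +kernel)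
  obtain ⟨g, b, rfl, rfl⟩ := exists_gen (by norm_num) (x := x)
    (by rw [← h.ord, hx, orderOf_tz h2 _ (by norm_num) (by decide +kernel)]) hG hP h1
  exact (h.comp (MulAut.conj g)).four ha hζ (f := 1) (s := 48) (a := 12) (b := 28) (A := [])
    (y₂ := [0, 1, 0, 3, 2, 1]) (y₃ := [30, 11, 10, 43, 42, 16])
    (w := ([([], 5), ([], 4)] : List (List (Fin 6) × Fin 6)))
    (Wl := ([[], [([1, 3, 4, 5, 2, 3, 4, 1, 3, 2], 0)]] : List (List (List (Fin 6) × Fin 6))))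
    (by decide +kernel) hx

/-- the word for the torus `7² × 3` -/
def l147 : Wd := ([2, 3, 0, 2, 1, 3, 4, 3, 0, 2, 1, 3, 0, 2, 1, 0] : List (Fin 6))

/-- the two classes -/
def y7 (b : ℕ) : List ℤ := if b = 0 then [0, 3, 0, 1, 0, 0] else [0, 4, 5, 0, 1, 0]

/-- the Weyl group of the centraliser -/
def w7 : List (List (Wd × Nd)) := ([[], [([], 5)], [([4, 5, 3, 4, 2, 3], 1)], [([], 0)], [([2, 3, 4, 1, 3, 2], 0)], [([4, 5, 3, 4, 2, 3], 1), ([], 5)], [([], 0), ([], 5)], [([2, 3, 4, 1, 3, 2], 0), ([], 5)], [([], 0), ([4, 5, 3, 4, 2, 3], 1)], [([2, 3, 4, 1, 3, 2], 0), ([4, 5, 3, 4, 2, 3], 1)], [([4, 5, 3, 4, 2, 3], 1), ([], 0)], [([2, 3, 4, 1, 3, 2], 0), ([], 0)], [([], 5), ([2, 3, 4, 1, 3, 2], 0)], [([], 0), ([4, 5, 3, 4, 2, 3], 1), ([], 5)], [([2, 3, 4, 1, 3, 2], 0), ([4, 5, 3, 4, 2, 3], 1), ([], 5)], [([4, 5, 3, 4, 2, 3],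 1), ([], 0), ([], 5)], [([2, 3, 4, 1, 3, 2], 0), ([], 0), ([], 5)], [([], 5), ([2, 3, 4, 1, 3, 2], 0), ([], 5)], [([4, 5, 3, 4, 2, 3], 1), ([], 0), ([4, 5, 3, 4, 2, 3], 1)], [([2, 3, 4, 1, 3, 2], 0), ([], 0), ([4, 5, 3, 4, 2, 3], 1)], [([], 5), ([2, 3, 4, 1, 3, 2], 0), ([4, 5, 3, 4, 2, 3], 1)], [([2, 3, 4, 1, 3, 2], 0), ([4, 5, 3, 4, 2, 3], 1), ([], 0)], [([], 5), ([2, 3, 4, 1, 3, 2], 0), ([], 0)], [([4, 5, 3, 4, 2, 3], 1), ([], 0), ([4, 5, 3, 4, 2, 3], 1), ([], 5)], [([2, 3, 4, 1, 3, 2], 0), ([], 0), ([4, 5, 3, 4, 2, 3], 1), ([], 5)], [([], 5), ([2, 3, 4, 1, 3, 2], 0), ([4, 5, 3, 4, 2, 3], 1), ([], 5)], [([2, 3, 4, 1, 3, 2], 0), ([4, 5, 3, 4, 2, 3], 1), ([], 0), ([], 5)], [([], 5), ([2, 3, 4, 1, 3, 2], 0), ([], 0), ([], 5)], [([2, 3, 4, 1, 3, 2], 0), ([4, 5, 3, 4, 2, 3], 1), ([], 0), ([4, 5, 3, 4, 2, 3], 1)], [([], 5),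 ([2, 3, 4, 1, 3, 2], 0), ([], 0), ([4, 5, 3, 4, 2, 3], 1)], [([], 5), ([2, 3, 4, 1, 3, 2], 0), ([4, 5, 3, 4, 2, 3], 1), ([], 0)], [([2, 3, 4, 1, 3, 2], 0), ([4, 5, 3, 4, 2, 3], 1), ([], 0), ([4, 5, 3, 4, 2, 3], 1), ([], 5)], [([], 5), ([2, 3, 4, 1, 3, 2], 0), ([], 0), ([4, 5, 3, 4, 2, 3], 1), ([], 5)], [([], 5), ([2, 3, 4, 1, 3, 2], 0), ([4, 5, 3, 4, 2, 3], 1), ([], 0), ([], 5)], [([], 5), ([2, 3, 4, 1, 3, 2], 0), ([4, 5, 3, 4, 2, 3], 1), ([], 0), ([4, 5, 3, 4, 2, 3], 1)], [([], 5), ([2, 3, 4, 1, 3, 2], 0), ([4, 5, 3, 4, 2, 3], 1), ([], 0), ([4, 5, 3, 4, 2, 3], 1), ([], 5)]] : List (List (List (Fin 6) × Fin 6)))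

/-- fusing words -/
def t147 (a b : ℕ) : Wd × ℕ := nthL ([([], 0), ([], 1), ([0, 2, 3, 4, 5, 1, 3, 4, 2, 3, 0, 2, 1, 3, 4, 5, 2, 1], 1), ([5, 4, 3, 2, 1, 3, 4, 5, 3, 0, 2, 1, 3, 4, 2, 1, 3, 2, 1, 0], 1), ([5, 4, 3, 2, 1, 3, 4, 5, 0, 2, 1, 3, 4, 1, 3, 0, 2, 0], 1), ([0, 2, 3, 4, 5, 1, 3, 4, 2, 3, 0, 2, 1, 3, 4, 5, 1, 3, 4, 1], 1), ([2, 3, 4, 1], 1), ([], 0), ([3, 2, 1, 3, 4, 1], 0), ([2, 3, 4, 3], 1), ([1, 3, 4, 1, 3, 2], 0), ([5, 4, 3, 2, 1, 3, 4, 5, 3, 0, 2, 1, 3, 4, 1, 3, 2, 0], 1), ([0, 2, 3, 4, 5, 1, 3, 4, 2, 3, 0, 2, 1, 3, 4, 5, 3, 4, 2, 3], 1), ([3, 4, 3, 2, 1, 3], 0), ([1, 3], 0), ([3, 1], 1), ([3, 2, 1, 3, 4, 3], 0), ([5, 4, 3, 2, 1, 3, 4, 5, 0, 2, 1, 3, 4, 0, 2, 1, 3, 2, 1, 0], 1), ([0, 2, 3, 4, 5, 1, 3, 4, 2, 3, 0, 2, 1, 3, 4, 5, 2, 1, 3, 1], 1), ([3, 4, 2, 3, 2, 1], 0), ([1, 3, 4, 3, 2, 1, 3, 2], 0), ([4, 3,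 2, 1, 3, 4, 2, 1, 3, 2], 0), ([1, 3], 1), ([2, 3, 4, 3], 0), ([4, 1, 3, 2], 0), ([2, 1, 3, 4, 2, 1, 3, 1], 0), ([0, 2, 3, 4, 5, 1, 3, 4, 2, 3, 0, 2, 1, 3, 4, 5, 2, 3], 1), ([5, 4, 3, 2, 1, 3, 4, 5, 0, 2, 1, 3, 4, 3, 0, 2, 1, 3, 2, 0], 1), ([3, 1], 0), ([5, 4, 3, 2, 1, 3, 4, 5, 4, 3, 0, 2, 1, 3, 4, 2, 1, 3, 0, 2, 1, 0], 1), ([0, 2, 3, 4, 5, 1, 3, 4, 2, 3, 0, 2, 1, 3, 4, 5, 3, 4, 2, 1], 1), ([3, 4, 3, 2], 0), ([3, 2, 1, 3, 4, 1, 3, 1], 0), ([1, 3, 4, 2, 1, 3, 2, 1], 0), ([2, 1, 3, 4, 2, 1], 1), ([4, 3, 2, 1, 3, 4, 1, 3, 2, 1], 0), ([2, 3, 4, 1], 0), ([2, 1, 3, 4, 2, 3], 0), ([0, 2, 3, 4, 5, 1, 3, 4, 2, 3, 0, 2, 1, 3, 4, 5, 2, 1, 3, 4, 3, 2], 1), ([5, 4, 3, 2, 1, 3, 4, 5, 2, 3, 0, 2, 1, 3, 4, 1, 3, 0, 2, 0], 1), ([4, 2, 1, 3, 2, 1], 0), ([3, 4, 3, 2], 1), ([4, 3, 2, 1, 3, 4, 3, 2, 1, 3, 2, 1], 0), ([2, 1, 3, 4, 2, 1], 0), ([0,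 2, 3, 4, 5, 1, 3, 4, 2, 3, 0, 2, 1, 3, 4, 5, 4, 3, 2, 1], 1), ([5, 4, 3, 2, 1, 3, 4, 5, 0, 2, 3, 4, 3, 2, 1, 3, 0, 2, 1, 0], 1), ([2, 3, 4, 1, 3, 1], 0), ([4, 2, 1, 3, 2, 1], 1), ([4, 3, 2, 1, 3, 2], 0)] : List (List (Fin 6) × ℕ)) ([], 0) (7 * a + b)

theorem t147_spec : ∀ a < 7, ∀ b < 7, (a = 0 ∧ b = 0) ∨ (t147 a b).2 < 2 ∧
    (∀ r < 72, ac (t147 a b).1 (pl l147 r) = pl l147 (ac (t147 a b).1 r)) ∧
    ∀ r < 72, (a * ev (y7 0) (ac (t147 a b).1 r) + b * ev (y7 1) (ac (t147 a b).1 r)) % (7 : ℕ) =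
      ev (y7 (t147 a b).2) r % (7 : ℕ) := by
  decide +kernel

theorem M0.sevenB (h : M0 σ j) (ha : WAct l147 σ) {ζ : kˣ} (hζ : IsPrimitiveRoot ζ 7)
    (h13 : ∀ a t : G, orderOf a = 13 → Commute t a → t ^ 39 = 1) {P : Subgroup G}
    (h1 : Nat.card P = 7 ∨ Nat.card P = 49) {x : G} (hx : x ∈ P) (e : j x = tz ζ (y7 1))
    (hP : ∀ g ∈ P, j g ∈ H) : ¬ IsCoatom (normalizer (P : Set G)) := by
  obtain ⟨ω, hω⟩ := exists_root k (n := 9) (by decide)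
  obtain ⟨t, ht, h4⟩ := h.exists_elt ha hω (s := cw 244) (r := 13) (y := [0, 6, 11, 10, 1, 0])
    (w := ([([], 3), ([], 4)] : List (List (Fin 6) × Fin 6))) (by decide +kernel)
  refine h.notmax ha hζ hω (f := 1) (A := [])
    (Wl := ([[], [([3], 2)], [([4, 3], 1)], [([4, 3], 1), ([3], 2)], [([3], 2), ([4, 3], 1)], [([3], 2), ([4, 3], 1), ([3], 2)]] : List (List (List (Fin 6) × Fin 6))))
    (by decide +kernel) hx (fun h2 => ?_) e hP (by simp) h4 fun h5 => ?_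
  · have := orderOf_tz hζ (y7 1) (by norm_num) (by decide +kernel)
    simp [← e, h2] at this
  · obtain ⟨a, h6, h7, h8⟩ := exists_comm (p := 13) (by norm_num) (ht ▸ pow_orderOf_eq_one t) h5
      (by rcases h1 with h1 | h1 <;> rw [h1] <;> decide)
    refine h7 (orderOf_eq_one_iff.1 (Nat.eq_one_of_dvd_coprimes (show Nat.Coprime 39 49 by norm_num)
      (orderOf_dvd_of_pow_eq_one (h13 t a ht h8.symm)) ((orderOf_dvd_natCard P h6).trans ?_)))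
    rcases h1 with h1 | h1 <;> rw [h1]
    norm_num

theorem M0.seven (h : M0 σ j) (ha : SAct l147 σ) (hG : ¬ 7 ^ 3 ∣ Nat.card G)
    (h13 : ∀ a t : G, orderOf a = 13 → Commute t a → t ^ 39 = 1) {P : Subgroup G}
    (hP : IsPGroup 7 P) (h1 : P ≠ ⊥) : ¬ IsCoatom (normalizer (P : Set G)) := by
  have h7 : Nat.Prime 7 := by norm_num
  obtain ⟨ζ, hζ⟩ := exists_root k (n := 9 * 7) (by decide)
  have h2 := hζ.pow (by norm_num) (show 9 * 7 = 9 * 7 from rfl)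
  obtain ⟨u, hu⟩ := h.exists_tz ha.w h2 (L := y7 0) (by decide +kernel)
  obtain ⟨v, hv⟩ := h.exists_tz ha.w h2 (L := y7 1) (by decide +kernel)
  obtain ⟨h3, h4⟩ := sup_zpowers h7 (u := u) (v := v)
    (by rw [← h.ord, hu, orderOf_tz h2 _ h7 (by decide +kernel)])
    (by rw [← h.ord, hv, orderOf_tz h2 _ h7 (by decide +kernel)])
    (h.comm (by rw [hu, hv]; exact comm_H (tz_mem _ _) (tz_mem _ _))) fun ⟨a, e⟩ =>
      notMem_zpowers h2 (r := 3) (L := y7 0) (L' := y7 1) (by decide +kernel)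
        ⟨a, by simp [← e, ← hu, ← hv]⟩
  obtain ⟨g, hg⟩ := exists_conj_le h7 h3 hG hP
  have h5 : P.map (MulAut.conj g).toMonoidHom ≤ zpowers u ⊔ zpowers v := map_le_iff_le_comap.2 hg
  have h6 := card_map_of_injective (K := P) (f := (MulAut.conj g).toMonoidHom) (MulAut.conj g).injective
  obtain ⟨i, hi, h8⟩ := (Nat.dvd_prime_pow h7).1 (h3 ▸ h6 ▸ card_dvd_of_le h5)
  have h' := h.comp (MulAut.conj g)
  interval_cases i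
  · exact absurd (card_eq_one.1 h8) h1
  · obtain ⟨⟨z, hz⟩, h9⟩ := ne_bot_iff_exists_ne_one.1 h1
    obtain rfl := eq_zpowers h7 h8 hz (by simpa using h9)
    obtain ⟨a, ha', b, hb, e⟩ := h4 _ (hg z hz)
    rcases t147_spec a ha' b hb with ⟨rfl, rfl⟩ | ⟨c0, c1, c2⟩
    · simp_all
    · have h'' := h'.conj' (ha.fix_nw c1)
      have e' : ((MulAut.conj (nw chevE6 X (t147 a b).1)⁻¹).toMonoidHom.comp
          (j.comp (MulAut.conj g).toMonoidHom)) z = tz (ζ ^ 9) (y7 (t147 a b).2) := by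
        change MulAut.conj _ (j (MulAut.conj g z)) = _
        rw [e, map_mul j, map_pow, map_pow, hu, hv, ← conj_tz h2 _ c2]
        simp [mul_assoc]
      generalize (t147 a b).2 = d at c0 e'
      interval_cases d
      · exact h''.four ha.w hζ (f := 2) (s := 90) (a := 24) (b := 25) (A := [36, 55, 56, 67])
          (y₂ := [0, 1, 4, 2, 8, 0]) (y₃ := [0, 34, 28, 23, 56, 0])
          (w := ([([], 1), ([], 3)] : List (List (Fin 6) × Fin 6))) (Wl := w7) (by decide +kernel) e'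
      · exact h''.sevenB ha.w h2 h13 (.inl h8) hz e' (mem_H_of_zpowers e')
  · obtain ⟨x, hx, e⟩ := (Subgroup.eq_of_le_of_card_ge h5 (by rw [h3, h6, h8])).ge
      (mem_sup_right (mem_zpowers v))
    refine h'.sevenB ha.w h2 h13 (.inr h8) hx ((congrArg j e).trans hv) fun z hz => ?_
    exact sup_le (α := Subgroup G) (c := H.comap j) (mem_H_of_zpowers hu) (mem_H_of_zpowers hv) (hg z hz)

end Cfsg.Agent.TE6
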