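import Mathlib
import Cfsg.Agent.Lang.TwE62C
import Cfsg.Agent.KSG.StSL2
import Cfsg.Agent.S2551
import Cfsg.Agent.Chev.FieldFix

/-! Elements of order five in `²E₆(2)`. -/

set_option autoImplicit false

namespace Cfsg.Agent.TE6

open Cfsg.Lie Cfsg.Agent.Chev Cfsg.Agent.Lang Finset Subgroup

variable {k : Type*} [Field k] [CharP k 2]

theorem X_cmt {r s u : ℕ} (h : r < 72 ∧ s < 72 ∧ s ≠ r ∧ s ≠ chevE6.neg r ∧
    (chevE6.commTerms r s).map (fun c => (c.1, c.2.1 % 2, c.2.2)) = [(u, 1, 1, 1)]) (a b : k) :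
    X s b * X r a * (X s b)⁻¹ * (X r a)⁻¹ = X u (b * a) := by
  obtain ⟨h1, h2, h3, h4, h5⟩ := h
  have := isSt_xC.comm r s (n72 ▸ h1) (n72 ▸ h2) h3 h4 a b
  obtain ⟨c, hc, e⟩ := List.map_eq_singleton_iff.1 h5
  simp only [Prod.mk.injEq] at e
  have e2 : (c.2.1 : k) = 1 := by
    rw [← intCast_emod_of_eq_zero (p := 2) (by simpa using CharTwo.two_eq_zero), e.2.1, Int.cast_one]
  have e3 : word X (chevE6.commWord k r s a b) = X u (b * a) := by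
    simp [word, ChevalleyDatum.commWord, hc, e.1, e.2.2, e2, CharTwo.neg_eq, mul_comm]
  rw [← e3, eq_inv_mul_iff_mul_eq.2 this.symm, mul_inv_rev, ← eq_inv_of_mul_eq_one_left (X_sq h2 b),
    ← eq_inv_of_mul_eq_one_left (X_sq h1 a), mul_assoc]

variable {G : Type*} [Group G] {σ : Gk k →* Gk k} {j : G →* Gk k} {l : Wd}

theorem SAct.map_H (ha : SAct l σ) (h : ∀ r < 72, pl l (encE6.neg r) = encE6.neg (pl l r)) {g : Gk k}
    (hg : g ∈ H) : σ g ∈ H :=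
  (Hs_le (K := H.comap σ)).2 (fun r hr t ht => by
    have h1 := ha r (n72 ▸ hr)
    have h2 := ha _ (n72 ▸ T.neg_lt' hr)
    have := hh_mem_Hs (D := chevE6) (x := X) (n72 ▸ pl_lt l (n72 ▸ hr)) (pow_ne_zero 2 ht)
    rw [neg_eq, h r (n72 ▸ hr), ← neg_eq] at h2
    simpa [hh, nn, h1, h2, CharTwo.neg_eq] using this) hg

variable [IsAlgClosed k]

theorem M0.tor_tz (h : M0 σ j) {w : Wd} (ha : SAct l σ) (hw : ∀ r < 72, ac w r = pl l (pl l r))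
    {ζ : kˣ} {n : ℕ} (hζ : IsPrimitiveRoot ζ n) {L : List ℤ} {g : G} (e : j g = tz ζ L) (i : Fin 6) :
    yv L i % n = (∑ a : Fin 6, yv L a * 4 * encE6.co (ac w (encE6.sim a)) i) % n := by
  have := congrFun (h.tor ha hw e) i
  simp only [pw, Pi.pow_apply, ← zpow_natCast, ← zpow_mul] at this
  rwa [← zpow_finset_sum, zpow_eq_iff hζ] at this

theorem M0.exists_nw (h : M0 σ j) (ha : SAct l σ) {w : Wd} {m : ℕ} (c : m.Coprime 3 ∧
    (∀ r < 72, ac w (pl l r) = pl l (ac w r)) ∧ ∀ r < 72, (ac w)^[m] r = r) :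
    ∃ g, j g = nw chevE6 X w := h.mem _ m (ha.fix_nw c.2.1) (nw_pow c.2.2) c.1

/-- the word for the torus `5² × 3²` -/
def l225 : Wd := ([0, 2, 3, 4, 5, 0, 2, 1, 3, 4, 0, 2, 1, 3, 0, 2, 1, 0] : List (Fin 6))

/-- fusing words -/
def t225 (a b : ℕ) : Wd := nthL ([[], [2, 3, 4, 5, 3], [2, 1, 3, 4, 5, 2, 3, 4, 2, 3, 0, 2, 1, 3, 0, 2, 0], [2, 1, 3, 4, 5, 2, 3, 0, 2, 1, 3, 4, 1, 3, 2], [2, 3, 4, 5, 3, 2, 1, 3, 4, 0, 2, 3, 0, 2, 1], [], [2, 3, 0, 2, 1, 3, 4, 5, 2, 1, 3, 1, 0], [3, 4, 5, 3, 4, 2, 3, 0, 2, 1, 3, 4, 3, 2, 1], [4, 2, 3, 0, 2, 1, 3, 4, 5, 3, 2, 1, 3, 4, 2], [4, 5, 4, 3, 2, 1, 3, 4, 3, 2, 1, 3, 0, 2, 0], [4, 2, 1, 3, 2, 1, 0], [0, 2, 1, 3, 4, 5, 4, 2, 3, 2, 0], [5, 1, 3, 4, 3, 0, 2, 1, 3, 0, 2, 1, 0], [0, 2, 3, 4, 5, 0, 2, 3, 4, 2, 1], [3, 4, 5, 2, 3, 4, 2, 3], [0, 2, 1, 3, 4, 2, 1], [3, 4, 5, 4, 3, 2, 1, 3, 4, 3, 0, 2, 1, 3, 0, 2, 1, 0], [0, 2, 3, 4, 5, 4, 2,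 3, 2, 1, 0], [5, 3, 4, 3, 2], [0, 2, 1, 3, 4, 5, 4, 2, 3, 0, 2, 1, 3, 4, 2, 3, 0, 2, 1], [2, 1, 3, 4, 0, 2, 3, 0, 2, 1], [4, 5, 2, 1, 3, 4, 2, 3, 0, 2, 0], [4, 2, 3, 0, 2, 1, 3, 4, 5, 2, 3, 4, 0, 2, 1, 3, 2, 1, 0], [3, 4, 5, 3, 4, 3, 2, 1, 3, 2, 0], [2, 3, 0, 2, 1, 3, 4, 5, 0, 2, 1, 3, 4, 2, 3, 2, 1]] : List (List (Fin 6))) [] (5 * a + b)

theorem t225_spec : ∀ a < 5, ∀ b < 5, (a = 0 ∧ b = 0) ∨ (((8 : ℕ).Coprime 3 ∧
    (∀ r < 72, ac (t225 a b) (pl l225 r) = pl l225 (ac (t225 a b) r)) ∧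
    ∀ r < 72, (ac (t225 a b))^[8] r = r) ∧ ∀ r < 72, (a * ev [3, 4, 4, 4, 1, 0] (ac (t225 a b) r) +
      b * ev [3, 4, 2, 3, 0, 1] (ac (t225 a b) r)) % (5 : ℕ) = ev [3, 4, 4, 4, 1, 0] r % (5 : ℕ)) := by
  decide +kernel

theorem class5 [Finite G] (h : M0 σ j) (ha : SAct l225 σ) (hG : ¬ 5 ^ 3 ∣ Nat.card G) :
    ∃ u : G, ∀ x, orderOf x = 5 → IsConj u x := by
  obtain ⟨ζ, hζ⟩ := exists_root k (n := 5) (by decide)
  obtain ⟨u, hu⟩ := h.exists_tz ha.w hζ (L := [3, 4, 4, 4, 1, 0]) (by decide +kernel)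
  obtain ⟨v, hv⟩ := h.exists_tz ha.w hζ (L := [3, 4, 2, 3, 0, 1]) (by decide +kernel)
  obtain ⟨h1, h2⟩ := sup_zpowers Nat.prime_five (u := u) (v := v)
    (by rw [← h.ord, hu, orderOf_tz hζ _ Nat.prime_five (by decide +kernel)])
    (by rw [← h.ord, hv, orderOf_tz hζ _ Nat.prime_five (by decide +kernel)])
    (h.comm (by rw [hu, hv]; exact comm_H (tz_mem _ _) (tz_mem _ _))) fun ⟨a, e⟩ =>
      notMem_zpowers hζ (r := 1) (L := [3, 4, 4, 4, 1, 0]) (L' := [3, 4, 2, 3, 0, 1])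
        (by decide +kernel) ⟨a, by simp [← e, ← hu, ← hv]⟩
  refine ⟨u, fun x hx => ?_⟩
  obtain ⟨g, hg⟩ := exists_conj_le Nat.prime_five h1 hG (P := zpowers x)
    (IsPGroup.of_card (n := 1) (by simp [hx]))
  obtain ⟨a, ha', b, hb, e⟩ := h2 _ (hg x (mem_zpowers x))
  rcases t225_spec a ha' b hb with ⟨rfl, rfl⟩ | ⟨c1, c2⟩
  · simp_all
  · obtain ⟨n, hn⟩ := h.exists_nw ha c1
    refine (isConj_iff.2 ⟨n, h.inj ?_⟩).trans (isConj_iff.2 ⟨g, e⟩).symm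
    simpa [hn, hu, hv] using conj_tz hζ _ c2

/-- the roots of the subsystem `A₃` -/
def rt (i j : Fin 4) : ℕ := !![0, 69, 70, 71; 2, 0, 39, 47; 1, 32, 0, 46; 0, 24, 25, 0] i j

omit [IsAlgClosed k] in
theorem exists_alt : ∃ ψ : alternatingGroup (Fin 8) →* Gk k, Function.Injective ψ ∧
    (∀ i j, i ≠ j → X (rt i j) 1 ∈ ψ.range) ∧
    ∀ K : Subgroup (Gk k), (∀ i j, i ≠ j → X (rt i j) 1 ∈ K) → ψ.range ≤ K := by
  have h0 : ∀ i j, rt i j < 72 := by decide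
  obtain ⟨f, hf⟩ := KSG.StSL.exists_hom (x := fun i j a => X (rt i j) (ZMod.castHom dvd_rfl k a))
    ⟨fun i j _ a b => by rw [map_add]; exact isSt_xC.add _ (n72 ▸ h0 i j) _ _,
      fun i j a b h1 h2 h3 h4 _ _ => E6.comm S _ _ (by revert i j a b; decide +kernel) _ _,
      fun i j l h1 h2 h3 a b => by rw [map_mul]; exact X_cmt (by revert i j l; decide +kernel) _ _⟩
    (by simp)
  obtain ⟨Φ, -⟩ := S2551.exists_equiv
  let e := Φ.trans (MulEquiv.ofBijective Matrix.SpecialLinearGroup.toGL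
    ⟨Matrix.SpecialLinearGroup.toGL_injective, fun g => ⟨⟨g.1, by
      have : ∀ u : (ZMod 2)ˣ, u.1 = 1 := by decide
      exact this (Matrix.GeneralLinearGroup.det g)⟩, Units.ext rfl⟩⟩).symm
  have h1 : ∀ i j, i ≠ j → f (KSG.tvE i j 1) = X (rt i j) 1 := fun i j h => by rw [hf i j h, map_one]
  refine ⟨f.comp e.toMonoidHom, ?_, fun i j h => ⟨e.symm (KSG.tvE i j 1), by simp [h1 i j h]⟩,
    fun K hK => ?_⟩
  · rw [← MonoidHom.ker_eq_bot_iff]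
    refine (alternatingGroup.normal_subgroup_eq_bot_or_eq_top (by simp)).resolve_right fun h => ?_
    have := MonoidHom.mem_ker.1 (h.ge (mem_top (e.symm (KSG.tvE 0 1 1))))
    exact E6.x_ne_one S (rt 0 1) (n72 ▸ h0 0 1) (by simpa [h1] using this)
  · rintro _ ⟨g, rfl⟩
    refine (KSG.eq_top_of_tvE (K.comap f) fun i j h a => ?_).ge (mem_top _)
    rw [mem_comap, hf i j h]
    have : a = 0 ∨ a = 1 := by revert a; decide
    rcases this with rfl | rfl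
    · rw [map_zero, X, isSt_xC.x_zero (n72 ▸ h0 i j)]; exact one_mem _
    · rw [map_one]; exact hK i j h

/-- the word for the torus `5 × 3` -/
def l15 : Wd := ([0] : List (Fin 6))

/-- the Weyl group of the centraliser -/
def w15 : List (List (Wd × Nd)) := ([[], [([], 3)], [([], 1)], [([4, 5, 2, 3, 4, 1, 3, 2], 0)], [([], 1), ([], 3)], [([4, 5, 2, 3, 4, 1, 3, 2], 0), ([], 3)], [([], 3), ([], 1)], [([4, 5, 2, 3, 4, 1, 3, 2], 0), ([], 1)], [([], 3), ([4, 5, 2, 3, 4, 1, 3, 2], 0)], [([], 3), ([], 1), ([], 3)], [([4, 5, 2, 3, 4, 1, 3, 2], 0), ([], 1), ([], 3)], [([], 3), ([4, 5, 2, 3, 4, 1, 3, 2], 0), ([], 3)], [([4, 5, 2, 3, 4, 1, 3, 2], 0), ([], 3), ([], 1)], [([], 3), ([4, 5, 2, 3, 4, 1, 3, 2], 0), ([], 1)], [([], 1), ([], 3), ([4, 5, 2, 3, 4, 1, 3, 2], 0)], [([4, 5, 2, 3, 4, 1, 3, 2], 0), ([], 3), ([], 1), ([], 3)], [([], 3), ([4, 5, 2, 3, 4, 1, 3, 2], 0), ([], 1),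 ([], 3)], [([], 1), ([], 3), ([4, 5, 2, 3, 4, 1, 3, 2], 0), ([], 3)], [([], 3), ([4, 5, 2, 3, 4, 1, 3, 2], 0), ([], 3), ([], 1)], [([], 1), ([], 3), ([4, 5, 2, 3, 4, 1, 3, 2], 0), ([], 1)], [([], 3), ([4, 5, 2, 3, 4, 1, 3, 2], 0), ([], 3), ([], 1), ([], 3)], [([], 1), ([], 3), ([4, 5, 2, 3, 4, 1, 3, 2], 0), ([], 1), ([], 3)], [([], 1), ([], 3), ([4, 5, 2, 3, 4, 1, 3, 2], 0), ([], 3), ([], 1)], [([], 1), ([], 3), ([4, 5, 2, 3, 4, 1, 3, 2], 0), ([], 3), ([], 1), ([], 3)]] : List (List (List (Fin 6) × Fin 6)))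

theorem M0.mem_five (h : M0 σ j) (ha : SAct l15 σ) {ζ : kˣ} (hζ : IsPrimitiveRoot ζ 5) {g : G}
    (hg : j g ∈ H) : j g ∈ zpowers (tz ζ [3, 0, 0, 0, 0, 1]) := by
  obtain ⟨ω, hω⟩ := exists_root k (n := 9) (by decide)
  have h1 := ha.w.pow_eq_one (N := 15) (U := [[-6, 0, 0, 0, 0, -3], [0, -15, 0, 0, 0, 0],
    [-2, 0, -10, 0, -5, -1], [0, 0, 0, -15, 0, 0], [-4, 0, -5, 0, -10, -2], [3, 0, 0, 0, 0, -6]])
    (by decide +kernel) hg (h.fix g)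
  obtain ⟨a, ha', e⟩ := chk3.mem (f := 1) (s := 171) (A := []) (by decide +kernel) ha.w hω
    (pow_mem hg 5) (by rw [← pow_mul, h1]) (by rw [map_pow, h.fix, pow_one]) (by simp)
  have h2 : ∀ g, j g ≠ tz ω (cw 171) := fun g e => absurd
    (h.tor_tz (w := ([0, 5] : List (Fin 6))) ha (by decide +kernel) hω e 0) (by decide +kernel)
  refine ha.w.mem_zpowers (m := 5) (n := 1) hζ one_pos (0 : Fin 6) (U := [[-1, -5, -5, -5, -5, -3],
    [-3, -6, -5, -5, -5, -4], [-3, -5, -4, -5, -2, -4], [-3, -5, -5, -6, -5, -4], [-1, -5, -2, -5, 1, -3],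
    [-2, -5, -5, -5, -5, -4]]) (V := [[-1, -1, -1, -1, -1, -1], [-1, -1, -1, -1, -1, -1],
    [-1, -1, -1, -1, 0, -1], [-1, -1, -1, -1, -1, -1], [-1, -1, -1, -1, 1, -1], [-1, -1, -1, -1, -1, -1]])
    (by decide +kernel) hg (h.fix g) ?_
  interval_cases a
  · exact e
  · exact absurd (by rw [map_pow, e, pow_one]) (h2 (g ^ 5))
  · exact absurd (by rw [map_pow, map_pow, e, ← pow_mul, pow_succ, cw_pow hω (by norm_num), one_mul])
      (h2 ((g ^ 5) ^ 2))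

theorem cent5 (h : M0 σ j) (ha : SAct l15 σ) {ζ : kˣ} (hζ : IsPrimitiveRoot ζ 5) {x : G}
    (hx : j x = tz ζ [3, 0, 0, 0, 0, 1]) :
    Nonempty (centralizer {x} ≃* Multiplicative (ZMod 5) × alternatingGroup (Fin 8)) := by
  obtain ⟨ψ, h1, h2, h3⟩ := exists_alt (k := k)
  set y : List ℤ := [3, 0, 0, 0, 0, 1]
  have c1 : ∀ i j, rt i j < 72 ∧ ev y (rt i j) % (5 : ℕ) = 0 := by decide +kernel
  have c2 : ∀ r < 72, ev y r % (5 : ℕ) = 0 → pl l15 r = r ∧ ∃ i j, i ≠ j ∧ rt i j = r := by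
    decide +kernel
  have k1 : ∀ r ∈ ps y 5, pl l15 r = r ∧ X r 1 ∈ ψ.range := fun r hr => by
    obtain ⟨d, i, j, hij, rfl⟩ := c2 r (mem_ps.1 hr).1 (mem_ps.1 hr).2
    exact ⟨d, h2 i j hij⟩
  have k2 : ψ.range ≤ j.range := h3 _ fun a b _ => h.mem _ 2
    (by rw [ha _ (c1 a b).1, (c2 _ (c1 a b).1 (c1 a b).2).1, one_pow]) (by rw [sq, X_sq (c1 a b).1])
    (by norm_num)
  have k3 : ψ.range ≤ centralizer {tz ζ y} := h3 _ fun a b _ =>
    mem_centralizer_singleton_iff.2 ((comm_X hζ (c1 a b).1).2 (c1 a b).2).symm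
  have hΦ := fun r (_ : r < chevE6.nroots) t => fieldHom_xC (D := chevE6) (frobenius k 2) r t
  have k4 : ∀ {A} {g}, g ∈ XS X (A ∩ ps y 5) → σ g = fieldHom chevE6 (frobenius k 2) g :=
    fun {A g} hg => (XS_le (K := σ.eqLocus _)).2 (fun r hr t => by
      change σ _ = fieldHom _ _ _
      rw [fieldHom_xC, ha r (mem_ps.1 hr.2).1, (k1 r hr.2).1, frobenius_def]) hg
  have k5 : ∀ {A} {g}, T.Nil A → g ∈ XS X (A ∩ ps y 5) → σ g = g → g ∈ ψ.range := fun {A g} hA hg e =>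
    mem_of_fix_XS (isND_xC T) isSt_xC (φ := fun _ : Unit => fieldHom chevE6 (frobenius k 2))
      (fun _ => stab_field hΦ isSt_xC T)
      (hA.mono Set.inter_subset_left (hA.closed.inter (closed_of_torChar (hΨ hζ y))))
      (fun r hr t ht => by
        have := X_inj (mem_ps.1 hr.2).1 ((fieldHom_xC _ r t).symm.trans (ht ()))
        rw [frobenius_def, sq] at this
        rcases eq_zero_or_one_of_sq_eq_self (sq t ▸ this) with rfl | rfl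
        · rw [isSt_xC.x_zero (n72 ▸ (mem_ps.1 hr.2).1)]; exact one_mem _
        · exact (k1 r hr.2).2) hg fun _ => (k4 hg).symm.trans e
  have k6 : (centralizer {x}).map j = zpowers (tz ζ y) ⊔ ψ.range := by
    refine le_antisymm ?_ (sup_le (zpowers_le.2 ⟨x, mem_centralizer_singleton_iff.2 rfl, hx⟩)
      fun g hg => ?_)
    · rintro _ ⟨g, hg, rfl⟩
      obtain ⟨u, hu, n, hN, w, hw, u', hu', e⟩ :=
        exists_bruhat' isSt_xC T (g := j g) (by rw [Gs_xC]; trivial)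
      obtain ⟨d1, d2, d3⟩ := bruhat_of_comm (isND_xC T) isSt_xC isR3_xC (hΨ hζ y) (hS hζ y) hu hN hw hu'
        (show _ ∈ centralizer {tz ζ y} by
          rw [← e, mem_centralizer_singleton_iff, ← hx]
          exact (Commute.map (mem_centralizer_singleton_iff.1 hg) j).eq)
      obtain ⟨n', hn', hw'⟩ := chkC_sound (L := y) (n := 5) (Wl := w15) (by decide +kernel)
        { carrier := {w | ∃ n ∈ ψ.range ⊓ Ns chevE6 X, Acts X T n w}
          one_mem' := ⟨1, one_mem _, Acts.one⟩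
          mul_mem' := fun ⟨_, h1, h2⟩ ⟨_, h3, h4⟩ => ⟨_, mul_mem h1 h3, h2.mul h4⟩
          inv_mem' := fun ⟨_, h1, h2⟩ => ⟨_, inv_mem h1, h2.inv⟩ }
        (fun a ha w hw => by
          have d := ((hΨ hζ y a).1 ha).1
          obtain ⟨t, ht, e⟩ := hw.exists_acts (isSt_xC (F := k)) d
          refine ⟨nn chevE6 X a 1, ⟨mul_mem (mul_mem (k1 a ha).2 ?_) (k1 a ha).2,
            isSt_xC.toIsSt0.nn_mem_Ns T d one_ne_zero⟩, ?_⟩
          · simpa [CharTwo.neg_eq] using (k1 _ (neg_mem_of_torChar (hΨ hζ y) ha)).2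
          · simpa [isSt_xC.toIsSt0.nn_eq T d t] using (isSt_xC.acts_hh T d ht).inv.mul e) d2
      have d4 := (isND_xC T).mem_Hs_of_acts_one isSt_xC (mul_mem hN (inv_mem hn'.2))
        (by simpa using hw.mul hw'.inv)
      have d5 := ha.map_H (by decide +kernel) d4
      have d6 : σ u ∈ Us chevE6 X := k4 d1 ▸ (stab_field hΦ isSt_xC T).mem_XS (fun _ hr => hr.1) hu
      obtain ⟨m, hm⟩ := k2 hn'.1
      obtain ⟨d7, d8⟩ := (isND_xC T).bruhat_unique_of_eq hw' (mul_mem (Us_le_Bs d6) (Hs_le_Bs d5))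
        (mul_mem (Us_le_Bs hu) (Hs_le_Bs d4)) (u := σ u') (k4 d3 ▸ (stab_field hΦ isSt_xC T).mem_XS
          (S := T.invSet w) (fun _ hr => T.lt_iff.2 hr.1.2) hu') hu' (by
          rw [mul_assoc u, inv_mul_cancel_right, ← e, ← h.fix g, e, ← hm]
          simp [h.fix, mul_assoc])
      have d9 := k5 T.nil_pos' d1 ((isND_xC T).UH_unique d6 hu d5 d4 d7).1
      have d10 := k5 (T.nil_invSet w) d3 d8
      obtain ⟨z, hz⟩ : n * n'⁻¹ ∈ j.range := by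
        rw [show n = u⁻¹ * j g * u'⁻¹ by rw [e]; group]
        exact mul_mem (mul_mem (mul_mem (inv_mem (k2 d9)) ⟨g, rfl⟩) (inv_mem (k2 d10)))
          (inv_mem (k2 hn'.1))
      rw [e, ← inv_mul_cancel_right n n', ← hz]
      exact mul_mem (mul_mem (mem_sup_right d9) (mul_mem_sup (h.mem_five ha hζ (hz ▸ d4)) hn'.1))
        (mem_sup_right d10)
    · obtain ⟨a, rfl⟩ := k2 hg
      exact ⟨a, mem_centralizer_singleton_iff.2
        (h.comm (hx ▸ mem_centralizer_singleton_iff.1 (k3 hg))), rfl⟩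
  have := Fact.mk Nat.prime_five
  have k7 := orderOf_tz hζ y Nat.prime_five (by decide +kernel)
  let e := mulEquivOfPrimeCardEq (G := Multiplicative (ZMod 5)) (G' := zpowers (tz ζ y)) (p := 5)
    (by simp) (by simp [k7])
  have k8 : ∀ a b, Commute (((zpowers (tz ζ y)).subtype.comp e.toMonoidHom) a) (ψ b) := fun a b => by
    obtain ⟨m, hm⟩ := (e a).2
    change Commute (e a).1 _
    exact hm ▸ (Commute.symm (mem_centralizer_singleton_iff.1 (k3 ⟨b, rfl⟩))).zpow_left m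
  have k9 : ((zpowers (tz ζ y)).subtype.comp e.toMonoidHom).range = zpowers (tz ζ y) := by
    rw [MonoidHom.range_comp, MonoidHom.range_eq_top.2 e.surjective, ← MonoidHom.range_eq_map,
      range_subtype]
  have k10 := (MonoidHom.noncommCoprod_injective _ _ k8).2 ⟨(subtype_injective _).comp e.injective, h1, by
    rw [k9, Subgroup.disjoint_def]
    rintro _ ⟨m, hm⟩ ⟨a, rfl⟩
    rw [show a = 1 from mem_bot.1 ((alternatingGroup.center_eq_bot (by simp)).le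
      (mem_center_iff.2 fun b => h1 ?_)), map_one]
    rw [map_mul, map_mul, ← hm]
    exact (Commute.zpow_right (mem_centralizer_singleton_iff.1 (k3 ⟨b, rfl⟩)) m).eq⟩
  exact ⟨((centralizer {x}).equivMapOfInjective j h.inj).trans ((MulEquiv.subgroupCongr (by
    rw [k6, MonoidHom.noncommCoprod_range _ _ k8, k9])).trans (MonoidHom.ofInjective k10).symm)⟩

end Cfsg.Agent.TE6
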